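import Groth.Agent.DefSchLib.Glue
import Groth.Agent.ArtFunLib.Cmp
import Groth.Agent.ArtFunLib.Basic

/-!
# Schlessinger's conditions for the deformation functor of a scheme
-/

universe u

open CategoryTheory AlgebraicGeometry IsLocalRing Limits

noncomputable section

namespace Groth.Agent.DefSchLib

open ArtFun ArtFun.Art

variable {Λ k : Type u} [CommRing Λ] [Field k] [Algebra Λ k] {X : Scheme.{u}} {x : X ⟶ specPt k}
variable {A A' : Art Λ k}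

lemma nonempty_iso_of_cl {ξ ξ' : DefSch X x A} (e : ξ.cl = ξ'.cl) : Nonempty (ξ.Iso ξ') := Quotient.exact e

lemma cl_eq {ξ ξ' : DefSch X x A} (e : ξ.Iso ξ') : ξ.cl = ξ'.cl := Quotient.sound ⟨e⟩

lemma surjective_cl (q : (defFunctor (Λ := Λ) X x).obj A) : ∃ ξ : DefSch X x A, ξ.cl = q :=
  Quotient.exists_rep q

lemma flat_of_isField {X : Scheme.{u}} (x : X ⟶ Spec (CommRingCat.of k)) : Flat x := by
  refine flat_of_cover (fun U : X.affineOpens => U) (iSup_affineOpens_eq_top _) fun U => ?_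
  algebraize [str x (U : X.Opens)]
  exact (inferInstance : Module.Flat k Γ(X, U))

/-- A deformation over `k` is trivial. -/
theorem isIso_i (ξ : DefSch X x (base Λ k)) : IsIso ξ.i :=
  ξ.isPullback.isIso_fst_of_isIso

theorem h0_defFunctor (X : Scheme.{u}) (x : X ⟶ specPt k) : H0 (defFunctor (Λ := Λ) X x) := by
  refine ⟨⟨(DefSch.self X x (flat_of_isField x)).cl⟩, ⟨fun q q' => ?_⟩⟩
  have key : ∀ ξ : DefSch X x (base Λ k), ξ.cl = (DefSch.self X x (flat_of_isField x)).cl := fun ξ =>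
    cl_eq (isoOfHom (ξ := DefSch.self X x (flat_of_isField x)) ξ.i (ξ.i_f.trans (comp_specRes_base x))
      (Category.id_comp ξ.i)).symm
  obtain ⟨ξ, rfl⟩ := surjective_cl q
  obtain ⟨ξ', rfl⟩ := surjective_cl q'
  rw [key, key ξ']

/-- A base change of deformations along a surjection is a closed immersion. -/
theorem isClosedImmersion_of {ξ : DefSch X x A} {ξ' : DefSch X x A'} (g : A ⟶ A') (hg : Function.Surjective g)
    (j : ξ'.total ⟶ ξ.total) (hf : j ≫ ξ.f = ξ'.f ≫ specMap g) (hi : ξ'.i ≫ j = ξ.i) : IsClosedImmersion j := by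
  obtain ⟨e, he⟩ := nonempty_iso_baseChange g j hf hi
  haveI : IsClosedImmersion (specMap g) := IsClosedImmersion.spec_of_surjective _ hg
  rw [← he]
  infer_instance

theorem isAffineHom_of {ξ : DefSch X x A} {ξ' : DefSch X x A'} (j : ξ'.total ⟶ ξ.total) (hi : ξ'.i ≫ j = ξ.i) :
    IsAffineHom j :=
  ⟨fun _ hU => isAffine_preimage j hi hU⟩

/-- A morphism into a deformation factors uniquely through a base change of another deformation. -/
theorem hom_ext_of_baseChange {ξ : DefSch X x A} {ξ' : DefSch X x A'} (g : A ⟶ A') (j : ξ'.total ⟶ ξ.total)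
    (hf : j ≫ ξ.f = ξ'.f ≫ specMap g) (hi : ξ'.i ≫ j = ξ.i) {T : Scheme.{u}} {u v : T ⟶ ξ'.total}
    (h₁ : u ≫ j = v ≫ j) (h₂ : u ≫ ξ'.f = v ≫ ξ'.f) : u = v := by
  obtain ⟨e, he⟩ := nonempty_iso_baseChange g j hf hi
  rw [← cancel_mono e.iso.hom]
  apply pullback.hom_ext
  · rw [Category.assoc, Category.assoc, he, h₁]
  · rw [Category.assoc, Category.assoc]
    exact (congrArg (u ≫ ·) e.hom_f).trans (h₂.trans (congrArg (v ≫ ·) e.hom_f).symm)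

/-- Automorphisms lift along `g`. -/
def Lifts {A' A : Art Λ k} (X : Scheme.{u}) (x : X ⟶ specPt k) (g : A' ⟶ A) : Prop :=
  ∀ (ζ : DefSch X x A) (ξ : DefSch X x A') (j : ζ.total ⟶ ξ.total), j ≫ ξ.f = ζ.f ≫ specMap g → ζ.i ≫ j = ξ.i →
    ∀ τ : ζ.Iso ζ, ∃ σ : ξ.Iso ξ, j ≫ σ.iso.hom = τ.iso.hom ≫ j

lemma lifts_base {A' : Art Λ k} (g : A' ⟶ base Λ k) : Lifts X x g := fun ζ ξ j _ _ τ => by
  refine ⟨DefSch.Iso.refl ξ, ?_⟩
  haveI := isIso_i ζ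
  rw [← cancel_epi ζ.i, ← Category.assoc ζ.i τ.iso.hom, τ.i_hom]
  exact congrArg (ζ.i ≫ ·) (Category.comp_id j)

lemma iso_ext {ξ ξ' : DefSch X x A} {e e' : ξ.Iso ξ'} (h : e.iso.hom = e'.iso.hom) : e = e' := by
  cases e; cases e'
  simp only [DefSch.Iso.mk.injEq]
  exact CategoryTheory.Iso.ext h

/-- Lifting, in terms of base change. -/
theorem surjective_baseChange_iff {A' A : Art Λ k} (g : A' ⟶ A) :
    (∀ ξ : DefSch X x A', Function.Surjective fun e : ξ.Iso ξ => e.baseChange g) ↔ Lifts X x g := by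
  refine ⟨fun h ζ ξ j hf hi τ => ?_, fun h ξ τ => ?_⟩
  · obtain ⟨e, he⟩ := nonempty_iso_baseChange g j hf hi
    obtain ⟨σ, hσ⟩ := h ξ (e.symm.trans (τ.trans e))
    refine ⟨σ, ?_⟩
    have h1 := congrArg (fun t => t.iso.hom ≫ pullback.fst ξ.f (specMap g)) hσ
    simp only [DefSch.Iso.baseChange, DefSch.pullMap_fst] at h1
    rw [← he, Category.assoc, h1]
    simp [DefSch.Iso.trans, DefSch.Iso.symm, he]
  · obtain ⟨σ, hσ⟩ := h (ξ.baseChange g) ξ (pullback.fst _ _) pullback.condition (DefSch.baseChange_i_fst ξ g) τ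
    refine ⟨σ, iso_ext (pullback.hom_ext ?_ ?_)⟩
    · exact (DefSch.pullMap_fst σ.iso.hom σ.hom_f g).trans hσ
    · exact (DefSch.pullMap_snd σ.iso.hom σ.hom_f g).trans τ.hom_f.symm

lemma lifts_bijective {A' A : Art Λ k} (g : A' ⟶ A) (hg : Function.Bijective g) : Lifts X x g := by
  intro ζ ξ j hf hi τ
  obtain ⟨e, he⟩ := nonempty_iso_baseChange g j hf hi
  haveI : IsIso g := ArtFunLib.isIso_of_bijective g hg
  haveI : IsIso (specMap g) := by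
    have : IsIso (CommRingCat.ofHom g.toAlgHom.toRingHom) := (ConcreteCategory.isIso_iff_bijective _).2 hg
    infer_instance
  haveI : IsIso j := by rw [← he]; infer_instance
  refine ⟨⟨(asIso j).symm ≪≫ τ.iso ≪≫ asIso j, ?_, ?_⟩, ?_⟩
  · rw [← cancel_epi j]
    simp [hf, reassoc_of% τ.hom_f]
  · rw [← hi]
    simp [reassoc_of% τ.i_hom]
  · simp

lemma Lifts.comp {A' C A : Art Λ k} {p : A' ⟶ C} {q : C ⟶ A} (hp : Lifts X x p) (hq : Lifts X x q) :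
    Lifts X x (p ≫ q) := by
  intro ζ ξ j hf hi τ
  let jC : ζ.total ⟶ (ξ.baseChange p).total := pullback.lift j (ζ.f ≫ specMap q)
    (by rw [hf, Category.assoc, specMap_comp])
  obtain ⟨σC, hσC⟩ := hq ζ (ξ.baseChange p) jC (pullback.lift_snd _ _ _) (by
    apply pullback.hom_ext
    · rw [Category.assoc, pullback.lift_fst, hi, DefSch.baseChange_i_fst]
    · rw [Category.assoc, pullback.lift_snd, reassoc_of% ζ.i_f, specRes_comp]
      exact (DefSch.baseChange_i_f ξ p).symm) τ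
  obtain ⟨σ, hσ⟩ := hp (ξ.baseChange p) ξ (pullback.fst _ _) pullback.condition (DefSch.baseChange_i_fst ξ p) σC
  refine ⟨σ, ?_⟩
  have hj : jC ≫ pullback.fst ξ.f (specMap p) = j := pullback.lift_fst _ _ _
  rw [← hj, Category.assoc, hσ, reassoc_of% hσC]

theorem lifts_of_small (h : ∀ (A' A : Art Λ k) (p : A' ⟶ A), IsSmallExt p → Lifts X x p)
    {A' A : Art Λ k} (g : A' ⟶ A) (hg : Function.Surjective g) : Lifts X x g :=
  ArtFunLib.surjective_induction (P := fun _ _ f => Lifts X x f) (fun _ _ e he => lifts_bijective e he)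
    (fun _ _ _ p q hp _ hq => (h _ _ p hp).comp hq) g hg

variable {B A₁ A₂ : Art Λ k} {p₁ : B ⟶ A₁} {p₂ : B ⟶ A₂} {f₁ : A₁ ⟶ A} {f₂ : A₂ ⟶ A}

/-- Gluing, for morphisms of deformations. -/
theorem exists_glueing' (h : IsFibreProd p₁ p₂ f₁ f₂) (hf : Function.Surjective f₂) {ξ : DefSch X x A}
    {ξ₁ : DefSch X x A₁} {ξ₂ : DefSch X x A₂} (j₁ : ξ.total ⟶ ξ₁.total) (hj₁ : j₁ ≫ ξ₁.f = ξ.f ≫ specMap f₁)
    (hi₁ : ξ.i ≫ j₁ = ξ₁.i) (j₂ : ξ.total ⟶ ξ₂.total) (hj₂ : j₂ ≫ ξ₂.f = ξ.f ≫ specMap f₂)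
    (hi₂ : ξ.i ≫ j₂ = ξ₂.i) :
    ∃ (η : DefSch X x B) (a : ξ₂.total ⟶ η.total) (b : ξ₁.total ⟶ η.total), IsPushout j₂ j₁ a b ∧
      a ≫ η.f = ξ₂.f ≫ specMap p₂ ∧ b ≫ η.f = ξ₁.f ≫ specMap p₁ ∧ ξ₁.i ≫ b = η.i ∧ ξ₂.i ≫ a = η.i :=
  haveI := isAffineHom_of j₁ hi₁
  haveI := isClosedImmersion_of f₂ hf j₂ hj₂ hi₂
  exists_glueing h j₁ hj₁ hi₁ j₂ hj₂ hi₂

/-- (S1): surjectivity of the comparison map. -/
theorem surjective_cmp (h : IsFibreProd p₁ p₂ f₁ f₂) (hf : Function.Surjective f₂) :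
    Function.Surjective (cmp (defFunctor X x) h) := by
  refine (ArtFunLib.cmp_surj_iff _ h).2 fun q₁ q₂ he => ?_
  obtain ⟨ξ₁, rfl⟩ := surjective_cl q₁
  obtain ⟨ξ₂, rfl⟩ := surjective_cl q₂
  rw [defFunctor_map_cl, defFunctor_map_cl] at he
  obtain ⟨e⟩ := nonempty_iso_of_cl he
  obtain ⟨η, a, b, -, hga, hgb, hb, ha⟩ := exists_glueing' h hf (ξ := ξ₂.baseChange f₂) (ξ₁ := ξ₁) (ξ₂ := ξ₂)
    (e.symm.iso.hom ≫ pullback.fst ξ₁.f (specMap f₁))
    (by rw [Category.assoc, pullback.condition, ← Category.assoc]; exact congrArg (· ≫ specMap f₁) e.symm.hom_f)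
    (by rw [← Category.assoc, e.symm.i_hom]; exact DefSch.baseChange_i_fst ξ₁ f₁)
    (pullback.fst _ _) pullback.condition (DefSch.baseChange_i_fst ξ₂ f₂)
  obtain ⟨e₁, -⟩ := nonempty_iso_baseChange p₁ b hgb hb
  obtain ⟨e₂, -⟩ := nonempty_iso_baseChange p₂ a hga ha
  exact ⟨η.cl, (cl_eq e₁).symm, (cl_eq e₂).symm⟩

/-- Injectivity of the comparison map, given lifting of automorphisms. -/
theorem injective_cmp (h : IsFibreProd p₁ p₂ f₁ f₂) (hf : Function.Surjective f₂) (hl : Lifts X x f₂) :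
    Function.Injective (cmp (defFunctor X x) h) := by
  refine (ArtFunLib.cmp_inj_iff _ h).2 fun q q' he₁ he₂ => ?_
  obtain ⟨η, rfl⟩ := surjective_cl q
  obtain ⟨η', rfl⟩ := surjective_cl q'
  rw [defFunctor_map_cl, defFunctor_map_cl] at he₁ he₂
  obtain ⟨e₁⟩ := nonempty_iso_of_cl he₁
  obtain ⟨e₂⟩ := nonempty_iso_of_cl he₂
  let η₁ := η.baseChange p₁
  let η₂ := η.baseChange p₂
  let ξ := η₂.baseChange f₂
  let j₂ : ξ.total ⟶ η₂.total := pullback.fst η₂.f (specMap f₂)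
  have hj₂ : j₂ ≫ η₂.f = ξ.f ≫ specMap f₂ := pullback.condition
  have hi₂ : ξ.i ≫ j₂ = η₂.i := DefSch.baseChange_i_fst η₂ f₂
  let j₁ : ξ.total ⟶ η₁.total := pullback.lift (j₂ ≫ pullback.fst η.f (specMap p₂)) (ξ.f ≫ specMap f₁) (by
    rw [Category.assoc, pullback.condition, reassoc_of% hj₂, Category.assoc, ← specMap_comp, ← specMap_comp, h.w])
  have hj₁ : j₁ ≫ η₁.f = ξ.f ≫ specMap f₁ := pullback.lift_snd _ _ _
  have hi₁ : ξ.i ≫ j₁ = η₁.i := by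
    apply pullback.hom_ext
    · rw [Category.assoc, pullback.lift_fst, reassoc_of% hi₂]
      exact (DefSch.baseChange_i_fst η p₂).trans (DefSch.baseChange_i_fst η p₁).symm
    · rw [Category.assoc, pullback.lift_snd, reassoc_of% ξ.i_f, specRes_comp]
      exact (DefSch.baseChange_i_f η p₁).symm
  obtain ⟨η₀, a, b, hsq, hga, hgb, hb, ha⟩ := exists_glueing' h hf j₁ hj₁ hi₁ j₂ hj₂ hi₂
  -- the comparison with `η`
  let ψ : η₀.total ⟶ η.total := hsq.desc (pullback.fst η.f (specMap p₂)) (pullback.fst η.f (specMap p₁))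
    (pullback.lift_fst _ _ _).symm
  have hψ : ψ ≫ η.f = η₀.f := by
    apply hsq.hom_ext
    · rw [hsq.inl_desc_assoc, hga]; exact pullback.condition
    · rw [hsq.inr_desc_assoc, hgb]; exact pullback.condition
  let E : η₀.Iso η := isoOfHom ψ hψ (by
    rw [← hb, Category.assoc, hsq.inr_desc]; exact DefSch.baseChange_i_fst η p₁)
  -- the comparison with `η'`
  let m₁ : η₁.total ⟶ η'.total := e₁.iso.hom ≫ pullback.fst η'.f (specMap p₁)
  let ε₂ : ξ.total ⟶ (η'.baseChange p₂).total := j₂ ≫ e₂.iso.hom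
  let ε₁ : ξ.total ⟶ (η'.baseChange p₂).total := pullback.lift (j₁ ≫ m₁) (ξ.f ≫ specMap f₂) (by
    rw [Category.assoc, Category.assoc, pullback.condition, reassoc_of% e₁.hom_f, reassoc_of% hj₁,
      Category.assoc, ← specMap_comp, ← specMap_comp, h.w])
  obtain ⟨u₂, hu₂⟩ := nonempty_iso_baseChange (ξ' := ξ) f₂ ε₂
    (by rw [Category.assoc, e₂.hom_f, hj₂]) (by rw [reassoc_of% hi₂]; exact e₂.i_hom)
  obtain ⟨u₁, hu₁⟩ := nonempty_iso_baseChange (ξ' := ξ) f₂ ε₁ (pullback.lift_snd _ _ _) (by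
    apply pullback.hom_ext
    · rw [Category.assoc, pullback.lift_fst, reassoc_of% hi₁, reassoc_of% e₁.i_hom]
      exact (DefSch.baseChange_i_fst η' p₁).trans (DefSch.baseChange_i_fst η' p₂).symm
    · rw [Category.assoc, pullback.lift_snd, reassoc_of% ξ.i_f, specRes_comp]
      exact (DefSch.baseChange_i_f η' p₂).symm)
  let τ : ξ.Iso ξ := u₁.trans u₂.symm
  have hτ : τ.iso.hom ≫ ε₂ = ε₁ := by
    rw [← hu₂, ← hu₁]
    simp [τ, DefSch.Iso.trans, DefSch.Iso.symm]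
  obtain ⟨σ, hσ⟩ := hl ξ η₂ j₂ hj₂ hi₂ τ
  let m₂ : η₂.total ⟶ η'.total := σ.iso.hom ≫ e₂.iso.hom ≫ pullback.fst η'.f (specMap p₂)
  have hm : j₂ ≫ m₂ = j₁ ≫ m₁ := by
    change j₂ ≫ σ.iso.hom ≫ e₂.iso.hom ≫ _ = _
    simp only [ε₂] at hτ
    rw [reassoc_of% hσ, reassoc_of% hτ]
    exact pullback.lift_fst _ _ _
  have hm₂ : m₂ ≫ η'.f = η₂.f ≫ specMap p₂ := by
    rw [Category.assoc, Category.assoc, pullback.condition, reassoc_of% e₂.hom_f, reassoc_of% σ.hom_f]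
  have hm₁ : m₁ ≫ η'.f = η₁.f ≫ specMap p₁ := by
    rw [Category.assoc, pullback.condition, reassoc_of% e₁.hom_f]
  let χ : η₀.total ⟶ η'.total := hsq.desc m₂ m₁ hm
  have hχ : χ ≫ η'.f = η₀.f := by
    apply hsq.hom_ext
    · rw [hsq.inl_desc_assoc, hga, hm₂]
    · rw [hsq.inr_desc_assoc, hgb, hm₁]
  let E' : η₀.Iso η' := isoOfHom χ hχ (by
    rw [← hb, Category.assoc, hsq.inr_desc, reassoc_of% e₁.i_hom]
    exact DefSch.baseChange_i_fst η' p₁)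
  exact cl_eq (E.symm.trans E')

/-- Bijectivity for `HSq` gives lifting of automorphisms. -/
theorem lifts_of_injective {A' : Art Λ k} (p : A' ⟶ A) (hp : Function.Surjective p) {q₁ q₂ : B ⟶ A'}
    (h : IsFibreProd q₁ q₂ p p) (hinj : Function.Injective (cmp (defFunctor X x) h)) : Lifts X x p := by
  intro ζ ξ j hf hi τ
  obtain ⟨η₁, a₁, b₁, hsq₁, hga₁, hgb₁, hb₁, ha₁⟩ := exists_glueing' h hp j hf hi j hf hi
  obtain ⟨η₂, a₂, b₂, hsq₂, hga₂, hgb₂, hb₂, ha₂⟩ := exists_glueing' h hp (τ.iso.hom ≫ j)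
    (by rw [Category.assoc, hf, reassoc_of% τ.hom_f]) (by rw [reassoc_of% τ.i_hom, hi]) j hf hi
  obtain ⟨u₁, hu₁⟩ := nonempty_iso_baseChange q₁ b₁ hgb₁ hb₁
  obtain ⟨v₁, hv₁⟩ := nonempty_iso_baseChange q₂ a₁ hga₁ ha₁
  obtain ⟨u₂, hu₂⟩ := nonempty_iso_baseChange q₁ b₂ hgb₂ hb₂
  obtain ⟨v₂, hv₂⟩ := nonempty_iso_baseChange q₂ a₂ hga₂ ha₂
  obtain ⟨φ⟩ := nonempty_iso_of_cl ((ArtFunLib.cmp_inj_iff _ h).1 hinj η₁.cl η₂.cl
    ((cl_eq u₁).symm.trans (cl_eq u₂)) ((cl_eq v₁).symm.trans (cl_eq v₂)))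
  let σ₁ : ξ.Iso ξ := (u₁.trans (φ.baseChange q₁)).trans u₂.symm
  let σ₂ : ξ.Iso ξ := (v₁.trans (φ.baseChange q₂)).trans v₂.symm
  have hσ₁ : σ₁.iso.hom ≫ b₂ = b₁ ≫ φ.iso.hom := by
    rw [← hu₁, ← hu₂]
    simp [σ₁, DefSch.Iso.trans, DefSch.Iso.symm, DefSch.Iso.baseChange]
  have hσ₂ : σ₂.iso.hom ≫ a₂ = a₁ ≫ φ.iso.hom := by
    rw [← hv₁, ← hv₂]
    simp [σ₂, DefSch.Iso.trans, DefSch.Iso.symm, DefSch.Iso.baseChange]
  obtain ⟨e, he⟩ := nonempty_iso_baseChange p j hf hi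
  let τ₁ : ζ.Iso ζ := (e.trans (σ₁.baseChange p)).trans e.symm
  let τ₂ : ζ.Iso ζ := (e.trans (σ₂.baseChange p)).trans e.symm
  have ht : ∀ σ : ξ.Iso ξ, ((e.trans (σ.baseChange p)).trans e.symm).iso.hom ≫ j = j ≫ σ.iso.hom := fun σ => by
    rw [← he]
    simp [DefSch.Iso.trans, DefSch.Iso.symm, DefSch.Iso.baseChange]
  have h₁ : τ₁.iso.hom ≫ j ≫ b₂ = j ≫ b₁ ≫ φ.iso.hom := by rw [reassoc_of% ht σ₁, hσ₁]
  have h₂ : τ₂.iso.hom ≫ j ≫ a₂ = j ≫ a₁ ≫ φ.iso.hom := by rw [reassoc_of% ht σ₂, hσ₂]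
  have h₃ : (τ₂.iso.hom ≫ τ.iso.hom) ≫ j ≫ b₂ = τ₁.iso.hom ≫ j ≫ b₂ := by
    rw [h₁, ← reassoc_of% hsq₁.w, ← h₂, hsq₂.w, Category.assoc, Category.assoc]
  have h₄ : τ₂.iso.hom ≫ τ.iso.hom = τ₁.iso.hom := by
    refine hom_ext_of_baseChange p j hf hi ?_ (by rw [Category.assoc, τ.hom_f, τ₂.hom_f, τ₁.hom_f])
    refine hom_ext_of_baseChange q₁ b₂ hgb₂ hb₂ ?_ ?_
    · rw [Category.assoc, Category.assoc]
      exact (Category.assoc _ _ _).symm.trans h₃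
    · simp only [Category.assoc, hf, reassoc_of% τ.hom_f, reassoc_of% τ₂.hom_f, reassoc_of% τ₁.hom_f]
  refine ⟨σ₂.symm.trans σ₁, ?_⟩
  change j ≫ σ₂.iso.inv ≫ σ₁.iso.hom = _
  have hinv : τ₂.iso.inv ≫ j = j ≫ σ₂.iso.inv := by
    rw [Iso.inv_comp_eq, ← Category.assoc, Iso.eq_comp_inv]
    exact (ht σ₂).symm
  rw [← reassoc_of% hinv, ← ht σ₁]
  change τ₂.iso.inv ≫ τ₁.iso.hom ≫ j = _
  rw [← h₄, Category.assoc, Iso.inv_hom_id_assoc]

theorem s1_defFunctor (X : Scheme.{u}) (x : X ⟶ specPt k) : S1 (defFunctor (Λ := Λ) X x) :=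
  fun _ _ _ _ _ _ _ _ h hf => surjective_cmp h hf

theorem heps_defFunctor (X : Scheme.{u}) (x : X ⟶ specPt k) : Heps (defFunctor (Λ := Λ) X x) :=
  fun _ _ _ _ h =>
    ⟨injective_cmp h (fun c => (dual Λ k).res_surjective c) (lifts_base _),
      surjective_cmp h (fun c => (dual Λ k).res_surjective c)⟩

end Groth.Agent.DefSchLib
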