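import Mathlib
import Groth.Agent.AffDef.Basic
import Groth.Agent.DefMod95.EndDeform

/-!
# Affine charts of a flat scheme over an Artinian local ring
-/

universe u

open CategoryTheory AlgebraicGeometry IsLocalRing Limits TopologicalSpace

noncomputable section

namespace Groth.Agent.DefSchLib

section Algebra

variable {C M : Type u} [CommRing C] [IsLocalRing C] [IsArtinianRing C] [CommRing M] (φ : C →+* M)

lemma isNilpotent_max (C : Type u) [CommRing C] [IsLocalRing C] [IsArtinianRing C] : IsNilpotent (maximalIdeal C) :=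
  (isArtinianRing_iff_isNilpotent_maximalIdeal C).1 inferInstance

/-- Membership in the extension of an ideal to a flat algebra, coordinatewise. -/
theorem exists_coord (hφ : φ.Flat) : ∃ (β : Type u) (r : β → M → C), (∀ b a y, r b (φ a * y) = a * r b y) ∧
    ∀ (I : Ideal C) (y : M), y ∈ I.map φ ↔ ∀ b, r b y ∈ I := by
  letI := φ.toAlgebra
  haveI : Module.Flat C M := hφ
  haveI : Module.Free C M := DefMod95.EndDeform.free_of_flat_of_nilpotent (isNilpotent_max C)
  let B := Module.Free.chooseBasis C M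
  refine ⟨Module.Free.ChooseBasisIndex C M, fun b y => B.repr y b, fun b a y => ?_, fun I y => ?_⟩
  · dsimp only
    rw [show φ a * y = a • y from rfl, map_smul, Finsupp.smul_apply, smul_eq_mul]
  · have h : y ∈ I.map φ ↔ y ∈ I • (⊤ : Submodule C M) := by
      rw [Ideal.smul_top_eq_map]; rfl
    rw [h]
    refine ⟨fun hy b => ?_, fun hy => ?_⟩
    · refine Submodule.smul_induction_on hy (fun a ha z _ => ?_) fun z w hz hw => ?_
      · dsimp only
        rw [map_smul, Finsupp.smul_apply, smul_eq_mul]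
        exact Ideal.mul_mem_right _ _ ha
      · dsimp only at hz hw ⊢
        rw [map_add, Finsupp.add_apply]
        exact add_mem hz hw
    · rw [← B.linearCombination_repr y, Finsupp.linearCombination_apply]
      exact Submodule.sum_mem _ fun b _ => Submodule.smul_mem_smul (hy b) Submodule.mem_top

/-- Cancellation of a new generator. -/
theorem cancel (hφ : φ.Flat) {K' : Ideal C} {c : C} (hc : c ∉ K') {y : M} (hy : φ c * y ∈ K'.map φ) :
    y ∈ (maximalIdeal C).map φ := by
  obtain ⟨β, r, hr, hI⟩ := exists_coord φ hφ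
  rw [hI] at hy ⊢
  intro b hu
  have := hy b
  rw [hr, mul_comm, Ideal.unit_mul_mem_iff_mem _ hu] at this
  exact hc this

/-- Injectivity of a flat algebra over an Artinian local ring with nonzero special fibre. -/
theorem injective_of_flat (hφ : φ.Flat) (h1 : (1 : M) ∉ (maximalIdeal C).map φ) : Function.Injective φ := by
  rw [injective_iff_map_eq_zero]
  intro a ha
  by_contra hne
  exact h1 (cancel φ hφ (K' := ⊥) (fun h => hne (Ideal.mem_bot.1 h)) (by rw [ha, zero_mul]; exact zero_mem _))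

omit [IsArtinianRing C] in
theorem split_mem {K K' : Ideal C} {c : C} (hK : K = K' ⊔ Ideal.span {c}) {z : M} (hz : z ∈ K.map φ) :
    ∃ y, z - φ c * y ∈ K'.map φ := by
  rw [hK, Ideal.map_sup, Ideal.map_span, Set.image_singleton] at hz
  obtain ⟨u, hu, w, hw, rfl⟩ := Submodule.mem_sup.1 hz
  obtain ⟨y, rfl⟩ := Ideal.mem_span_singleton'.1 hw
  exact ⟨y, by rw [mul_comm y, add_sub_cancel_right]; exact hu⟩

/-- One step of a composition series. -/
theorem exists_step {K : Ideal C} (hK : K ≠ ⊥) : ∃ (K' : Ideal C) (c : C),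
    K' < K ∧ c ∈ K ∧ c ∉ K' ∧ K = K' ⊔ Ideal.span {c} ∧ ∀ a ∈ maximalIdeal C, ∀ y ∈ K, a * y ∈ K' := by
  haveI : IsNoetherianRing C := inferInstance
  obtain ⟨K', hK', hmax⟩ := (wellFounded_gt (α := Ideal C)).has_min {I | I < K} ⟨⊥, bot_lt_iff_ne_bot.2 hK⟩
  obtain ⟨c, hcK, hc⟩ := SetLike.exists_of_lt (show K' < K from hK')
  have heq : ∀ I, K' ≤ I → I ≤ K → I = K' ∨ I = K := fun I h1 h2 => by
    rcases h2.eq_or_lt with h | h
    · exact Or.inr h
    · rcases h1.eq_or_lt with h' | h'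
      · exact Or.inl h'.symm
      · exact absurd h' (hmax I h)
  have hsup : K = K' ⊔ Ideal.span {c} := by
    rcases heq (K' ⊔ Ideal.span {c}) le_sup_left (sup_le hK'.le ((Ideal.span_singleton_le_iff_mem _).2 hcK)) with h | h
    · exact absurd (h ▸ Submodule.mem_sup_right (Ideal.mem_span_singleton_self c)) hc
    · exact h.symm
  refine ⟨K', c, hK', hcK, hc, hsup, fun a ha y hy => ?_⟩
  rw [hsup] at hy
  obtain ⟨u, hu, w, hw, rfl⟩ := Submodule.mem_sup.1 hy
  obtain ⟨r, rfl⟩ := Ideal.mem_span_singleton'.1 hw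
  rw [mul_add, ← mul_assoc, mul_comm a r, mul_assoc]
  refine add_mem (Ideal.mul_mem_left _ _ hu) (Ideal.mul_mem_left _ _ ?_)
  rcases heq (K' ⊔ Ideal.span {a * c}) le_sup_left
    (sup_le hK'.le ((Ideal.span_singleton_le_iff_mem _).2 (Ideal.mul_mem_left _ _ hcK))) with h | h
  · rw [← h]
    exact Submodule.mem_sup_right (Ideal.mem_span_singleton_self _)
  · exfalso
    have hcm : c ∈ K' ⊔ Ideal.span {a * c} := h.symm ▸ hcK
    obtain ⟨v, hv, x, hx, hvx⟩ := Submodule.mem_sup.1 hcm
    obtain ⟨s, rfl⟩ := Ideal.mem_span_singleton'.1 hx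
    have hu : IsUnit (1 - s * a) :=
      isUnit_one_sub_self_of_mem_nonunits _ ((IsLocalRing.mem_maximalIdeal _).1 (Ideal.mul_mem_left _ s ha))
    exact hc ((Ideal.unit_mul_mem_iff_mem _ hu).1 (by
      rw [show (1 - s * a) * c = v by linear_combination -hvx]; exact hv))

end Algebra

section Sections

variable {Y : Scheme.{u}}

/-- The affine opens inside an open. -/
abbrev AffIn (W : Y.Opens) : Type u := {V : Y.affineOpens // (V : Y.Opens) ≤ W}

lemma le_iSup_affine (W : Y.Opens) : W ≤ ⨆ V : AffIn W, (V.1 : Y.Opens) := by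
  intro y hy
  obtain ⟨V, hV, hyV, hVW⟩ := TopologicalSpace.Opens.isBasis_iff_nbhd.1 Y.isBasis_affineOpens hy
  exact Opens.mem_iSup.2 ⟨⟨⟨V, hV⟩, hVW⟩, hyV⟩

/-- Sections agreeing on all affine opens are equal. -/
theorem eq_of_affine {W : Y.Opens} {s t : Γ(Y, W)}
    (h : ∀ V : AffIn W, Y.presheaf.map (homOfLE V.2).op s = Y.presheaf.map (homOfLE V.2).op t) : s = t :=
  TopCat.Sheaf.eq_of_locally_eq' Y.sheaf (fun V : AffIn W => (V.1 : Y.Opens)) W (fun V => homOfLE V.2)
    (le_iSup_affine W) s t h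

lemma res_res {U V W : Y.Opens} (f : W ⟶ V) (f' : V ⟶ U) (h : W ⟶ U) (s : Γ(Y, U)) :
    Y.presheaf.map f.op (Y.presheaf.map f'.op s) = Y.presheaf.map h.op s := by
  rw [← ConcreteCategory.comp_apply, ← Functor.map_comp, ← op_comp, Subsingleton.elim (f ≫ f') h]

/-- A compatible family on affine opens glues. -/
theorem exists_glue (W : Y.Opens) (f : ∀ V : AffIn W, Γ(Y, V.1))
    (hf : ∀ (V V' : AffIn W) (h : (V'.1 : Y.Opens) ≤ V.1), Y.presheaf.map (homOfLE h).op (f V) = f V') :
    ∃ s : Γ(Y, W), ∀ V : AffIn W, Y.presheaf.map (homOfLE V.2).op s = f V := by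
  obtain ⟨s, hs, -⟩ := TopCat.Sheaf.existsUnique_gluing' Y.sheaf (fun V : AffIn W => (V.1 : Y.Opens)) W
    (fun V => homOfLE V.2) (le_iSup_affine W) f (fun V V' => by
      refine eq_of_affine fun A => ?_
      have h1 := hf V ⟨A.1, A.2.trans (inf_le_left.trans V.2)⟩ (A.2.trans inf_le_left)
      have h2 := hf V' ⟨A.1, A.2.trans (inf_le_left.trans V.2)⟩ (A.2.trans inf_le_right)
      exact (res_res _ _ _ _).trans ((h1.trans h2.symm).trans (res_res _ _ _ _).symm))
  exact ⟨s, hs⟩

/-- Sections over a preimage agreeing on preimages of affine opens are equal. -/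
theorem eq_of_affine_pre {Z : Scheme.{u}} (i : Z ⟶ Y) {W : Y.Opens} {s t : Γ(Z, i ⁻¹ᵁ W)}
    (h : ∀ V : AffIn W, Z.presheaf.map (homOfLE (i.preimage_mono V.2)).op s
      = Z.presheaf.map (homOfLE (i.preimage_mono V.2)).op t) : s = t :=
  TopCat.Sheaf.eq_of_locally_eq' Z.sheaf (fun V : AffIn W => i ⁻¹ᵁ (V.1 : Y.Opens)) (i ⁻¹ᵁ W)
    (fun V => homOfLE (i.preimage_mono V.2))
    (fun z hz => by
      obtain ⟨V, hV⟩ := Opens.mem_iSup.1 (le_iSup_affine W hz)
      exact Opens.mem_iSup.2 ⟨V, hV⟩) s t h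

lemma res_res' {Z : Scheme.{u}} {U V W : Z.Opens} (f : W ⟶ V) (f' : V ⟶ U) (h : W ⟶ U) (s : Γ(Z, U)) :
    Z.presheaf.map f.op (Z.presheaf.map f'.op s) = Z.presheaf.map h.op s := res_res f f' h s

/-- A compatible family on preimages of affine opens glues. -/
theorem exists_glue_pre {Z : Scheme.{u}} (i : Z ⟶ Y) (W : Y.Opens) (f : ∀ V : AffIn W, Γ(Z, i ⁻¹ᵁ V.1))
    (hf : ∀ (V V' : AffIn W) (h : (V'.1 : Y.Opens) ≤ V.1),
      Z.presheaf.map (homOfLE (i.preimage_mono h)).op (f V) = f V') :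
    ∃ s : Γ(Z, i ⁻¹ᵁ W), ∀ V : AffIn W, Z.presheaf.map (homOfLE (i.preimage_mono V.2)).op s = f V := by
  obtain ⟨s, hs, -⟩ := TopCat.Sheaf.existsUnique_gluing' Z.sheaf (fun V : AffIn W => i ⁻¹ᵁ (V.1 : Y.Opens)) (i ⁻¹ᵁ W)
    (fun V => homOfLE (i.preimage_mono V.2))
    (fun z hz => by
      obtain ⟨V, hV⟩ := Opens.mem_iSup.1 (le_iSup_affine W hz)
      exact Opens.mem_iSup.2 ⟨V, hV⟩) f (fun V V' => by
      refine eq_of_affine_pre i (W := (V.1 : Y.Opens) ⊓ V'.1) fun A => ?_
      have h1 := hf V ⟨A.1, A.2.trans (inf_le_left.trans V.2)⟩ (A.2.trans inf_le_left)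
      have h2 := hf V' ⟨A.1, A.2.trans (inf_le_left.trans V.2)⟩ (A.2.trans inf_le_right)
      exact (res_res' _ _ _ _).trans ((h1.trans h2.symm).trans (res_res' _ _ _ _).symm))
  exact ⟨s, hs⟩

end Sections

section Deformation

variable {C K : Type u} [CommRing C] [CommRing K] (e : C →+* K) {X Y : Scheme.{u}} (g : Y ⟶ Spec (CommRingCat.of C))
  (i : X ⟶ Y) (x : X ⟶ Spec (CommRingCat.of K))

/-- The structure map on sections. -/
abbrev str (g : Y ⟶ Spec (CommRingCat.of C)) (U : Y.Opens) : C →+* Γ(Y, U) :=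
  ((Scheme.ΓSpecIso (CommRingCat.of C)).inv ≫ g.appLE ⊤ U le_top).hom

lemma map_str {U V : Y.Opens} (h : V ≤ U) (c : C) : Y.presheaf.map (homOfLE h).op (str g U c) = str g V c := by
  change (g.appLE ⊤ U le_top ≫ Y.presheaf.map (homOfLE h).op) _ = _
  rw [Scheme.Hom.appLE_map]
  rfl

lemma specMap_str {U : Y.Opens} (hU : IsAffineOpen U) :
    Spec.map (CommRingCat.ofHom (str g U)) = hU.fromSpec ≫ g := by
  rw [CommRingCat.ofHom_hom, Spec.map_comp, ← Scheme.isoSpec_Spec_inv, ← IsAffineOpen.fromSpec_top,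
    IsAffineOpen.SpecMap_appLE_fromSpec g (isAffineOpen_top _) hU le_top]

variable {e g i x}

/-- The closed fibre on an affine chart. -/
theorem ker_app (he : Function.Surjective e) (hsq : IsPullback i x g (Spec.map (CommRingCat.ofHom e)))
    {U : Y.Opens} (hU : IsAffineOpen U) :
    Function.Surjective (i.app U).hom ∧
      (∀ c, i.app U (str g U c) = str x (i ⁻¹ᵁ U) (e c)) ∧
      RingHom.ker (i.app U).hom = (RingHom.ker e).map (str g U) := by
  haveI : IsClosedImmersion (Spec.map (CommRingCat.ofHom e)) := IsClosedImmersion.spec_of_surjective _ he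
  haveI : IsClosedImmersion i := MorphismProperty.of_isPullback hsq.flip inferInstance
  have hV : IsAffineOpen (i ⁻¹ᵁ U) := hU.preimage i
  have h1 : IsPullback (Spec.map (i.app U)) hV.fromSpec hU.fromSpec i := by
    refine IsOpenImmersion.isPullback _ _ _ _ ?_ ?_
    · rw [Scheme.Hom.app_eq_appLE, IsAffineOpen.SpecMap_appLE_fromSpec i hU hV le_rfl]
    · rw [IsAffineOpen.opensRange_fromSpec, IsAffineOpen.opensRange_fromSpec]
  have h2 : IsPullback (Spec.map (CommRingCat.ofHom (i.app U).hom)) (Spec.map (CommRingCat.ofHom (str x (i ⁻¹ᵁ U))))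
      (Spec.map (CommRingCat.ofHom (str g U))) (Spec.map (CommRingCat.ofHom e)) := by
    rw [specMap_str x hV, specMap_str g hU, CommRingCat.ofHom_hom]
    exact h1.paste_vert hsq
  obtain ⟨s1, s2, s3⟩ := AffDef.ker_of_isPullback e he (str g U) (i.app U).hom (str x (i ⁻¹ᵁ U)) h2
  exact ⟨s1, fun c => RingHom.congr_fun s2 c, s3⟩

theorem flat_str [Flat g] {U : Y.Opens} (hU : IsAffineOpen U) : (str g U).Flat := by
  have : Flat (Spec.map (CommRingCat.ofHom (str g U))) := by rw [specMap_str g hU]; infer_instance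
  exact Flat.SpecMap_iff.1 this

/-- Restriction commutes with passing to the closed fibre. -/
lemma app_res (i : X ⟶ Y) {U V : Y.Opens} (h : V ≤ U) (s : Γ(Y, U)) :
    i.app V (Y.presheaf.map (homOfLE h).op s) = X.presheaf.map (homOfLE (i.preimage_mono h)).op (i.app U s) := by
  rw [← ConcreteCategory.comp_apply, Scheme.Hom.naturality, ConcreteCategory.comp_apply]
  rfl

variable [IsLocalRing C] [IsArtinianRing C]

theorem surjective_fibre (he : Function.Surjective e) (hker : RingHom.ker e = maximalIdeal C)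
    (hsq : IsPullback i x g (Spec.map (CommRingCat.ofHom e))) : Surjective i := by
  refine MorphismProperty.of_isPullback hsq.flip ?_
  refine ⟨fun P => ?_⟩
  haveI : Nontrivial K := by
    by_contra h
    rw [not_nontrivial_iff_subsingleton] at h
    exact (maximalIdeal.isMaximal C).ne_top
      (by rw [← hker]; exact (Ideal.eq_top_iff_one _).2 (RingHom.mem_ker.2 (Subsingleton.elim _ _)))
  obtain ⟨q, hq⟩ := Ideal.exists_maximal K
  refine ⟨⟨q, hq.isPrime⟩, PrimeSpectrum.ext ?_⟩
  haveI := IsArtinianRing.isMaximal_of_isPrime (P : PrimeSpectrum C).asIdeal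
  haveI := IsArtinianRing.isMaximal_of_isPrime (q.comap e)
  exact (IsLocalRing.eq_maximalIdeal (I := q.comap e) inferInstance).trans (IsLocalRing.eq_maximalIdeal (I := (P : PrimeSpectrum C).asIdeal) inferInstance).symm

/-- An affine open meeting the closed fibre has injective structure map. -/
theorem one_not_mem (he : Function.Surjective e) (hker : RingHom.ker e = maximalIdeal C)
    (hsq : IsPullback i x g (Spec.map (CommRingCat.ofHom e))) {U : Y.Opens} (hU : IsAffineOpen U)
    (hne : (U : Set Y).Nonempty) : (1 : Γ(Y, U)) ∉ (maximalIdeal C).map (str g U) := by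
  rw [← hker, ← (ker_app he hsq hU).2.2, RingHom.mem_ker, map_one]
  obtain ⟨y, hy⟩ := hne
  haveI := surjective_fibre he hker hsq
  obtain ⟨z, rfl⟩ := i.surjective y
  haveI : Nonempty (i ⁻¹ᵁ U : X.Opens) := ⟨⟨z, hy⟩⟩
  exact one_ne_zero

end Deformation

end Groth.Agent.DefSchLib
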