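import Groth.Agent.DefSchLib.Affine
import Groth.Agent.Omega.DiagUniv

/-!
# Derivations of the structure sheaf and homomorphisms out of the differentials
-/

universe u

open CategoryTheory AlgebraicGeometry TopologicalSpace Opposite Limits

noncomputable section

namespace Groth.Agent.DefSchLib

variable {K : Type u} [CommRing K] {X Y : Scheme.{u}}

/-- A derivation of the structure sheaf vanishing on constants. -/
structure SDer (x : X ⟶ Spec (CommRingCat.of K)) where
  d : ∀ U : X.Opens, Γ(X, U) →+ Γ(X, U)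
  mul : ∀ U a b, d U (a * b) = a * d U b + b * d U a
  res : ∀ {U V : X.Opens} (h : V ≤ U) (s : Γ(X, U)),
    d V (X.presheaf.map (homOfLE h).op s) = X.presheaf.map (homOfLE h).op (d U s)
  const : ∀ (U : X.Opens) (a : K), d U (str x U a) = 0

variable {x : X ⟶ Spec (CommRingCat.of K)}

/-- The negative of a derivation. -/
def SDer.neg (D : SDer x) : SDer x where
  d U := - D.d U
  mul U a b := by simp only [AddMonoidHom.neg_apply, D.mul]; ring
  res h s := by simp only [AddMonoidHom.neg_apply, D.res, map_neg]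
  const U a := by simp only [AddMonoidHom.neg_apply, D.const, neg_zero]

/-- The derivation of a homomorphism out of the differentials. -/
def SDer.ofHom [QuasiSeparated x] (α : Omega.sheaf x ⟶ Coh.structureModule X) : SDer x where
  d U := (OmegaSh.fnSect X U).comp ((α.app U).hom.comp ((OmegaSh.dOmega x).app U))
  mul U a b := by
    change OmegaSh.fnSect X U (((OmegaSh.dOmega x).postcomp α.val).d (X := op U) (a * b)) = _
    rw [PresheafOfModules.Derivation.d_mul]
    rfl
  res {U V} h s := by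
    exact ((OmegaSh.dOmega x).postcomp α.val).d_map (homOfLE h).op s
  const U a := by
    have h0 : ((OmegaSh.dOmega x).postcomp α.val).d (X := op (x ⁻¹ᵁ ⊤))
        (x.app ⊤ ((Scheme.ΓSpecIso (CommRingCat.of K)).inv a)) = 0 :=
      ((OmegaSh.dOmega x).postcomp α.val).d_app _
    have h1 := ((OmegaSh.dOmega x).postcomp α.val).d_map (homOfLE (le_top : U ≤ x ⁻¹ᵁ ⊤)).op
      (x.app ⊤ ((Scheme.ΓSpecIso (CommRingCat.of K)).inv a))
    exact h1.trans ((congrArg _ h0).trans (map_zero _))

lemma SDer.ofHom_add [QuasiSeparated x] (α β : Omega.sheaf x ⟶ Coh.structureModule X) (U : X.Opens) (s : Γ(X, U)) :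
    (SDer.ofHom (α + β)).d U s = (SDer.ofHom α).d U s + (SDer.ofHom β).d U s := rfl

lemma SDer.ofHom_injective [QuasiSeparated x] {α β : Omega.sheaf x ⟶ Coh.structureModule X}
    (h : ∀ U s, (SDer.ofHom α).d U s = (SDer.ofHom β).d U s) : α = β := by
  obtain ⟨γ, -, huniq⟩ := Omega.DiagUniv.isUniversal_dOmega (f := x) _ ((OmegaSh.dOmega x).postcomp β.val)
  refine (huniq α ?_).trans (huniq β rfl).symm
  ext U s
  exact h U.unop s

theorem SDer.exists_ofHom {K : Type u} [Field K] {x : X ⟶ Spec (CommRingCat.of K)} [QuasiSeparated x] (D : SDer x) :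
    ∃ α : Omega.sheaf x ⟶ Coh.structureModule X, ∀ U s, (SDer.ofHom α).d U s = D.d U s := by
  let D' : OmegaSh.Der x (Coh.structureModule X) :=
    { d := fun {U} => (OmegaSh.strSect X U.unop).comp (D.d U.unop)
      d_mul := fun {U} a b => D.mul U.unop a b
      d_map := fun {U V} f a => D.res f.unop.le a
      d_app := fun {V} a => by
        change D.d (x ⁻¹ᵁ V.unop) (x.app V.unop a) = 0
        induction V using Opposite.rec with
        | op V =>
          by_cases h : ∃ z, z ∈ V
          · obtain ⟨z, hz⟩ := h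
            obtain rfl : V = ⊤ := top_le_iff.1 fun w _ => (@Subsingleton.elim _ (inferInstanceAs (Subsingleton (PrimeSpectrum K))) z w) ▸ hz
            obtain ⟨b, rfl⟩ := (Scheme.ΓSpecIso (CommRingCat.of K)).symm.commRingCatIsoToRingEquiv.surjective a
            refine Eq.trans (congrArg _ ?_) (D.const _ b)
            rw [Scheme.Hom.app_eq_appLE]
            rfl
          · have e : (x ⁻¹ᵁ V : X.Opens) = ⊥ := by
              ext w
              exact ⟨fun hw => absurd ⟨_, hw⟩ h, fun hw => hw.elim⟩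
            haveI : Subsingleton Γ(X, x ⁻¹ᵁ V) := by rw [e]; infer_instance
            exact Subsingleton.elim (α := Γ(X, x ⁻¹ᵁ V)) _ _ }
  obtain ⟨α, hα, -⟩ := Omega.DiagUniv.isUniversal_dOmega (f := x) _ D'
  exact ⟨α, fun U s => PresheafOfModules.Derivation.congr_d hα (X := op U) s⟩

section Glue

variable {i : X ⟶ Y}

/-- Affine opens of `Y` whose preimage lies in an open of `X`. -/
abbrev AffPre (i : X ⟶ Y) (W : X.Opens) : Type u := {V : Y.affineOpens // i ⁻¹ᵁ (V : Y.Opens) ≤ W}

lemma le_iSup_affPre (hi : Topology.IsInducing i) (W : X.Opens) : W ≤ ⨆ V : AffPre i W, i ⁻¹ᵁ (V.1 : Y.Opens) := by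
  intro z hz
  obtain ⟨O, hO, hOW⟩ := hi.isOpen_iff.1 W.2
  obtain ⟨V, hV, hzV, hVO⟩ := TopologicalSpace.Opens.isBasis_iff_nbhd.1 Y.isBasis_affineOpens
    (show i z ∈ (⟨O, hO⟩ : Y.Opens) by
      change i z ∈ O
      rw [← Set.mem_preimage, hOW]
      exact hz)
  refine Opens.mem_iSup.2 ⟨⟨⟨V, hV⟩, fun w hw => ?_⟩, hzV⟩
  change w ∈ (W : Set X)
  rw [← show i ⁻¹' O = (W : Set X) from hOW]
  exact hVO hw

/-- Sections agreeing on preimages of affine opens are equal. -/
theorem eq_of_affPre (hi : Topology.IsInducing i) {W : X.Opens} {s t : Γ(X, W)}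
    (h : ∀ V : AffPre i W, X.presheaf.map (homOfLE V.2).op s = X.presheaf.map (homOfLE V.2).op t) : s = t :=
  TopCat.Sheaf.eq_of_locally_eq' X.sheaf (fun V : AffPre i W => i ⁻¹ᵁ (V.1 : Y.Opens)) W
    (fun V => homOfLE V.2) (le_iSup_affPre hi W) s t h

/-- A compatible family on preimages of affine opens glues. -/
theorem exists_glue_affPre (hi : Topology.IsInducing i) (W : X.Opens) (f : ∀ V : AffPre i W, Γ(X, i ⁻¹ᵁ V.1))
    (hf : ∀ (V V' : AffPre i W) (h : (V'.1 : Y.Opens) ≤ V.1),
      X.presheaf.map (homOfLE (i.preimage_mono h)).op (f V) = f V') :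
    ∃ s : Γ(X, W), ∀ V : AffPre i W, X.presheaf.map (homOfLE V.2).op s = f V := by
  obtain ⟨s, hs, -⟩ := TopCat.Sheaf.existsUnique_gluing' X.sheaf (fun V : AffPre i W => i ⁻¹ᵁ (V.1 : Y.Opens)) W
    (fun V => homOfLE V.2) (le_iSup_affPre hi W) f (fun V V' => by
      refine eq_of_affine_pre i (W := (V.1 : Y.Opens) ⊓ V'.1) fun A => ?_
      have h1 := hf V ⟨A.1, (i.preimage_mono (A.2.trans inf_le_left)).trans V.2⟩ (A.2.trans inf_le_left)
      have h2 := hf V' ⟨A.1, (i.preimage_mono (A.2.trans inf_le_left)).trans V.2⟩ (A.2.trans inf_le_right)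
      exact (res_res' _ _ _ _).trans ((h1.trans h2.symm).trans (res_res' _ _ _ _).symm))
  exact ⟨s, hs⟩

/-- A derivation given on preimages of affine opens. -/
theorem exists_sder (x : X ⟶ Spec (CommRingCat.of K)) (hi : Topology.IsInducing i)
    (dd : ∀ V : Y.affineOpens, Γ(X, i ⁻¹ᵁ V) →+ Γ(X, i ⁻¹ᵁ V))
    (hmul : ∀ V a b, dd V (a * b) = a * dd V b + b * dd V a)
    (hres : ∀ (V V' : Y.affineOpens) (h : (V' : Y.Opens) ≤ V) (s : Γ(X, i ⁻¹ᵁ V)),
      dd V' (X.presheaf.map (homOfLE (i.preimage_mono h)).op s) = X.presheaf.map (homOfLE (i.preimage_mono h)).op (dd V s))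
    (hconst : ∀ (V : Y.affineOpens) (a : K), dd V (str x (i ⁻¹ᵁ V) a) = 0) :
    ∃ D : SDer x, ∀ (V : Y.affineOpens) s, D.d (i ⁻¹ᵁ V) s = dd V s := by
  have hex : ∀ (W : X.Opens) (s : Γ(X, W)), ∃ t : Γ(X, W), ∀ V : AffPre i W,
      X.presheaf.map (homOfLE V.2).op t = dd V.1 (X.presheaf.map (homOfLE V.2).op s) := fun W s =>
    exists_glue_affPre hi W _ fun V V' h => by rw [← hres V.1 V'.1 h, res_res']
  choose t ht using hex
  refine ⟨{ d := fun W => AddMonoidHom.mk' (t W) fun a b => eq_of_affPre hi fun V => ?_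
            mul := fun W a b => eq_of_affPre hi fun V => ?_
            res := fun {U W} h s => eq_of_affPre hi fun V => ?_
            const := fun W a => eq_of_affPre hi fun V => ?_ }, fun V s => ?_⟩
  · simp only [ht, map_add]
  · change X.presheaf.map _ (t W (a * b)) = X.presheaf.map _ (a * t W b + b * t W a)
    simp only [ht, map_add, map_mul, hmul]
  · change X.presheaf.map _ (t W _) = X.presheaf.map _ (X.presheaf.map _ (t U s))
    rw [ht, res_res' _ _ (homOfLE (V.2.trans h)), res_res' _ _ (homOfLE (V.2.trans h))]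
    exact (ht U s ⟨V.1, V.2.trans h⟩).symm
  · change X.presheaf.map _ (t W _) = X.presheaf.map _ 0
    rw [ht, map_str, hconst, map_zero]
  · have h := ht (i ⁻¹ᵁ V) s ⟨V, le_rfl⟩
    simp only [homOfLE_refl, op_id, CategoryTheory.Functor.map_id] at h
    exact h

end Glue

end Groth.Agent.DefSchLib
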