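import Groth.Agent.DefSchLib.Pert
import Groth.Agent.DefSchLib.SDer
import Groth.Agent.AffDef.FirstOrder

/-!
# Infinitesimal automorphisms of the trivial first-order deformation
-/

universe u

open CategoryTheory AlgebraicGeometry TopologicalSpace Opposite Limits IsLocalRing Groth.Agent.AffDef

noncomputable section

namespace Groth.Agent.DefSchLib

section General

variable {C K : Type u} [CommRing C] [CommRing K] {X Y Z : Scheme.{u}}

/-- Changing the base ring. -/
lemma str_comp_specMap (x : X ⟶ Spec (CommRingCat.of K)) (e : C →+* K) (W : X.Opens) (c : C) :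
    str (x ≫ Spec.map (CommRingCat.ofHom e)) W c = str x W (e c) := by
  change (x ≫ Spec.map (CommRingCat.ofHom e)).appLE ⊤ W le_top ((Scheme.ΓSpecIso (CommRingCat.of C)).inv c) = _
  refine (appLE_comp_apply x (Spec.map (CommRingCat.ofHom e)) ⊤ ⊤ W (by simp) le_top _).trans (congrArg _ ?_)
  refine Eq.trans ?_ (ConcreteCategory.congr_hom (Scheme.ΓSpecIso_inv_naturality (CommRingCat.ofHom e)).symm c)
  rw [ConcreteCategory.comp_apply, Scheme.Hom.appTop, Scheme.Hom.app_eq_appLE]
  rfl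

/-- Morphisms to an affine scheme agree when the structure maps on global sections do. -/
lemma ext_of_str {f f' : X ⟶ Spec (CommRingCat.of C)} (h : ∀ c, str f ⊤ c = str f' ⊤ c) : f = f' := by
  refine ext_of_isAffine ?_
  ext s
  obtain ⟨c, rfl⟩ := (Scheme.ΓSpecIso (CommRingCat.of C)).symm.commRingCatIsoToRingEquiv.surjective s
  have := h c
  simp only [str, Scheme.Hom.appTop, Scheme.Hom.app_eq_appLE] at this ⊢
  exact this

end General

variable {k : Type u} [Field k] {X Y : Scheme.{u}} {x : X ⟶ Spec (CommRingCat.of k)} {q : Y ⟶ X}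
  {g : Y ⟶ Spec (CommRingCat.of (D1 k))}

/-- The class of `ε` on a preimage. -/
abbrev eY (g : Y ⟶ Spec (CommRingCat.of (D1 k))) (W : Y.Opens) : Γ(Y, W) := str g W (epsD k)

lemma eY_mul_self (g : Y ⟶ Spec (CommRingCat.of (D1 k))) (W : Y.Opens) : eY g W * eY g W = 0 := by
  rw [← map_mul, show epsD k * epsD k = 0 from DualNumber.eps_mul_eps, map_zero]

lemma res_q (q : Y ⟶ X) {U V : X.Opens} (h : V ≤ U) (s : Γ(X, U)) :
    Y.presheaf.map (homOfLE (q.preimage_mono h)).op (q.app U s) = q.app V (X.presheaf.map (homOfLE h).op s) :=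
  (app_res q h s).symm

variable (q g) in
/-- `q + ε D`. -/
def pertD (D : SDer x) : Pert q where
  δ U :=
    { toFun := fun s => q.app U s + eY g (q ⁻¹ᵁ U) * q.app U (D.d U s)
      map_one' := by
        have h : D.d U 1 = 0 := by
          have := D.mul U 1 1
          simpa using this
        rw [h, map_zero, mul_zero, add_zero, map_one]
      map_zero' := by rw [map_zero, map_zero, map_zero, mul_zero, add_zero]
      map_add' := fun s t => by rw [map_add, map_add, map_add]; ring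
      map_mul' := fun s t => by
        rw [D.mul, map_mul, map_add, map_mul, map_mul]
        linear_combination (-(q.app U (D.d U s) * q.app U (D.d U t))) * eY_mul_self g (q ⁻¹ᵁ U) }
  res U V h s := by
    change _ + _ = Y.presheaf.map _ (_ + _)
    rw [map_add, map_mul, map_str, res_q, res_q, D.res h]
  near U s := ⟨2, by
    change (q.app U s + eY g (q ⁻¹ᵁ U) * q.app U (D.d U s) - q.app U s) ^ 2 = 0
    rw [add_sub_cancel_left, mul_pow, pow_two (eY g _), eY_mul_self, zero_mul]⟩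

lemma pertD_apply (D : SDer x) (U : X.Opens) (s : Γ(X, U)) :
    (pertD q g D).δ U s = q.app U s + eY g (q ⁻¹ᵁ U) * q.app U (D.d U s) := rfl

variable (hsq : IsPullback q g x (Spec.map (CommRingCat.ofHom (algebraMap k (D1 k)))))

include hsq in
lemma pertD_comp (D : SDer x) : (pertD q g D).hom ≫ x = g ≫ Spec.map (CommRingCat.ofHom (algebraMap k (D1 k))) := by
  rw [← hsq.w]
  refine ext_of_str fun c => ?_
  have h1 := appLE_str (g := x) ((pertD q g D).hom) rfl ⊤ ⊤ (by exact le_top) c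
  have h2 := appLE_str (g := x) q rfl ⊤ ⊤ (by exact le_top) c
  rw [← h1, ← h2, Pert.hom_appLE, pertD_apply, D.const, map_zero, mul_zero, add_zero]
  exact map_app _ _ _ _

/-- The automorphism of a derivation. -/
def autHom (D : SDer x) : Y ⟶ Y := hsq.lift (pertD q g D).hom g (pertD_comp hsq D)

lemma autHom_fst (D : SDer x) : autHom hsq D ≫ q = (pertD q g D).hom := hsq.lift_fst _ _ _

lemma autHom_snd (D : SDer x) : autHom hsq D ≫ g = g := hsq.lift_snd _ _ _

variable {i : X ⟶ Y} (hiq : i ≫ q = 𝟙 X) (hig : i ≫ g = x ≫ Spec.map (CommRingCat.ofHom (D1 k).res.toRingHom))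

include hig in
lemma i_eY (V : Y.Opens) (W : X.Opens) (e : W ≤ i ⁻¹ᵁ V) : i.appLE V W e (eY g V) = 0 := by
  refine (appLE_str (g := g) i hig V W e (epsD k)).trans ((str_comp_specMap x _ W (epsD k)).trans ?_)
  rw [show (D1 k).res.toRingHom (epsD k) = 0 from res_epsD, map_zero]

include hiq hig in
/-- The closed fibre of a trivial deformation. -/
lemma isPullback_fibre (hsq : IsPullback q g x (Spec.map (CommRingCat.ofHom (algebraMap k (D1 k))))) :
    IsPullback i x g (Spec.map (CommRingCat.ofHom (D1 k).res.toRingHom)) := by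
  have hb : Spec.map (CommRingCat.ofHom (D1 k).res.toRingHom) ≫ Spec.map (CommRingCat.ofHom (algebraMap k (D1 k)))
      = 𝟙 _ := by
    rw [← Spec.map_comp, ← CommRingCat.ofHom_comp,
      show (D1 k).res.toRingHom.comp (algebraMap k (D1 k)) = RingHom.id k from RingHom.ext (D1 k).res.commutes,
      CommRingCat.ofHom_id, Spec.map_id]
  refine IsPullback.of_right ?_ hig hsq
  rw [hiq, hb]
  exact IsPullback.of_horiz_isIso ⟨by simp⟩

include hiq hig hsq in
lemma surjective_i : AlgebraicGeometry.Surjective i :=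
  surjective_fibre (D1 k).res_surjective (ker_res_eq (D1 k)) (isPullback_fibre hiq hig hsq)

include hiq hig in
lemma i_autHom (D : SDer x) : i ≫ autHom hsq D = i := by
  refine hsq.hom_ext ?_ (by rw [Category.assoc, autHom_snd])
  rw [Category.assoc, autHom_fst]
  refine hom_ext_of_appLE rfl fun U W e e' s => ?_
  have e2 : W ≤ i ⁻¹ᵁ (q ⁻¹ᵁ U) := e'
  rw [appLE_comp_apply i q U (q ⁻¹ᵁ U) W le_rfl e2]
  refine (appLE_comp_apply i (pertD q g D).hom U (q ⁻¹ᵁ U) W le_rfl e2 s).trans ?_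
  rw [Pert.hom_appLE_self, pertD_apply, map_add,
    map_mul, i_eY hig, zero_mul, add_zero, Scheme.Hom.app_eq_appLE]

include hiq hig in
/-- Composition of the automorphisms adds the derivations. -/
theorem autHom_comp (D D' D'' : SDer x) (h : ∀ U s, D''.d U s = D.d U s + D'.d U s) :
    autHom hsq D ≫ autHom hsq D' = autHom hsq D'' := by
  haveI := surjective_i hsq hiq hig
  have hb : (autHom hsq D).base = 𝟙 _ := base_eq_id i (i_autHom hsq hiq hig D)
  refine hsq.hom_ext ?_ (by simp only [Category.assoc, autHom_snd])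
  rw [Category.assoc, autHom_fst, autHom_fst]
  refine hom_ext_of_appLE ?_ fun U W e e' s => ?_
  · change (autHom hsq D).base ≫ q.base = q.base
    rw [hb, Category.id_comp]
  have hW : W ≤ autHom hsq D ⁻¹ᵁ (q ⁻¹ᵁ U) := by
    rw [preimage_eq_of_base hb]
    exact e'
  have hq : ∀ t : Γ(X, U), (autHom hsq D).appLE (q ⁻¹ᵁ U) W hW (q.app U t)
      = Y.presheaf.map (homOfLE (show W ≤ q ⁻¹ᵁ U from e')).op ((pertD q g D).δ U t) := by
    intro t
    rw [Scheme.Hom.app_eq_appLE, ← appLE_comp_apply _ q U (q ⁻¹ᵁ U) W le_rfl hW]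
    exact (appLE_congr_hom (autHom_fst hsq D) U W _ t).trans (Pert.hom_appLE _ _ _ _ _)
  refine (appLE_comp_apply (autHom hsq D) (pertD q g D').hom U (q ⁻¹ᵁ U) W le_rfl hW s).trans ?_
  rw [Pert.hom_appLE_self, Pert.hom_appLE]
  simp only [pertD_apply, map_add, map_mul, map_str, hq, h]
  rw [appLE_str (g := g) (autHom hsq D) (autHom_snd hsq D)]
  linear_combination (Y.presheaf.map (homOfLE (show W ≤ q ⁻¹ᵁ U from e')).op (q.app U (D.d U (D'.d U s)))) * eY_mul_self g W

include hsq in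
theorem autHom_zero (D : SDer x) (h : ∀ U s, D.d U s = 0) : autHom hsq D = 𝟙 Y := by
  refine hsq.hom_ext ?_ (by rw [autHom_snd, Category.id_comp])
  rw [autHom_fst, Category.id_comp]
  refine hom_ext_of_appLE rfl fun U W e e' s => ?_
  rw [Pert.hom_appLE, pertD_apply, h, map_zero, mul_zero, add_zero]
  exact map_app _ _ _ _

/-- The zero derivation. -/
def SDer.zero (x : X ⟶ Spec (CommRingCat.of k)) : SDer x where
  d _ := 0
  mul _ _ _ := by simp
  res _ _ := by simp
  const _ _ := rfl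

/-- The automorphism with its inverse. -/
def autIso (D : SDer x) : Y ≅ Y where
  hom := autHom hsq D
  inv := autHom hsq D.neg
  hom_inv_id := (autHom_comp hsq hiq hig D D.neg (SDer.zero x) fun U s => (add_neg_cancel _).symm).trans
    (autHom_zero hsq _ fun _ _ => rfl)
  inv_hom_id := (autHom_comp hsq hiq hig D.neg D (SDer.zero x) fun U s => (neg_add_cancel _).symm).trans
    (autHom_zero hsq _ fun _ _ => rfl)

include hsq in
lemma isAffineOpen_preimage {U : X.Opens} (hU : IsAffineOpen U) : IsAffineOpen (q ⁻¹ᵁ U) := by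
  haveI : IsAffineHom q := MorphismProperty.of_isPullback hsq.flip inferInstance
  exact hU.preimage q

include hsq in
lemma flat_g : Flat g := MorphismProperty.of_isPullback hsq (by
  haveI : Flat x := inferInstance
  exact this)

include hiq hig hsq in
lemma ker_app_triv {U : X.Opens} (hU : IsAffineOpen U) (z : Γ(Y, q ⁻¹ᵁ U))
    (hz : z ∈ (maximalIdeal (D1 k)).map (str g (q ⁻¹ᵁ U))) : i.app (q ⁻¹ᵁ U) z = 0 := by
  rw [← ker_res_eq, ← (ker_app (D1 k).res_surjective (isPullback_fibre hiq hig hsq) (isAffineOpen_preimage hsq hU)).2.2] at hz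
  exact hz

include hiq hig in
/-- The derivation is determined by the automorphism. -/
theorem autHom_injective (D D' : SDer x) (h : autHom hsq D = autHom hsq D') (U : X.Opens) (s : Γ(X, U)) :
    D.d U s = D'.d U s := by
  haveI := flat_g hsq
  refine eq_of_affine fun V => ?_
  rw [← D.res, ← D'.res]
  set t := X.presheaf.map (homOfLE V.2).op s
  have h1 := appLE_congr_hom (show (pertD q g D).hom = (pertD q g D').hom by rw [← autHom_fst hsq, ← autHom_fst hsq, h])
    V.1 (q ⁻¹ᵁ V.1) le_rfl t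
  rw [Pert.hom_appLE_self, Pert.hom_appLE_self, pertD_apply, pertD_apply] at h1
  have h2 : eY g (q ⁻¹ᵁ V.1) * (q.app _ (D.d V.1 t - D'.d V.1 t)) = 0 := by
    rw [map_sub, mul_sub, sub_eq_zero]
    exact add_left_cancel h1
  have h3 := ker_app_triv hsq hiq hig V.1.2 _ (cancel _ (flat_str (isAffineOpen_preimage hsq V.1.2)) (K' := ⊥) (c := epsD k)
    (fun h0 => epsD_ne_zero (Ideal.mem_bot.1 h0)) (by rw [Ideal.map_bot, Ideal.mem_bot]; exact h2))
  have h4 : ∀ w : Γ(X, (V.1 : X.Opens)), i.appLE (q ⁻¹ᵁ V.1) V.1 (by rw [← Scheme.Hom.comp_preimage, hiq]; rfl) (q.app _ w) = w := by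
    intro w
    rw [Scheme.Hom.app_eq_appLE, ← appLE_comp_apply i q _ _ _ le_rfl]
    refine (appLE_congr_hom hiq _ _ _ w).trans ?_
    simp only [Scheme.Hom.appLE, Scheme.Hom.id_app]
    change X.presheaf.map _ w = w
    exact (congrArg (fun f => X.presheaf.map f w) (Subsingleton.elim _ (𝟙 (op (V.1 : X.Opens))))).trans (ConcreteCategory.congr_hom (X.presheaf.map_id _) w)
  have e : (V.1 : X.Opens) ≤ i ⁻¹ᵁ (q ⁻¹ᵁ V.1) := by rw [← Scheme.Hom.comp_preimage, hiq]; rfl
  have h5 := congrArg (X.presheaf.map (homOfLE e).op) h3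
  rw [map_zero, ← ConcreteCategory.comp_apply, Scheme.Hom.app_eq_appLE, Scheme.Hom.appLE_map] at h5
  have h6 := (h4 _).symm.trans h5
  exact sub_eq_zero.1 h6

lemma maximalIdeal_D1 : maximalIdeal (D1 k) = ⊥ ⊔ Ideal.span {epsD k} := by
  rw [bot_sup_eq]
  refine le_antisymm (fun a ha => ?_) ((Ideal.span_singleton_le_iff_mem _).2 ((ArtFun.Art.mem_maximalIdeal_iff _ _).2 res_epsD))
  obtain ⟨c, rfl⟩ := exists_eq_smul_epsD ha
  rw [Algebra.smul_def]
  exact Ideal.mul_mem_left _ _ (Ideal.mem_span_singleton_self _)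

include hiq hig in
/-- Every automorphism fixing the closed fibre comes from a derivation. -/
theorem exists_autHom_eq (φ : Y ⟶ Y) (hφg : φ ≫ g = g) (hiφ : i ≫ φ = i) : ∃ D : SDer x, autHom hsq D = φ := by
  classical
  haveI := flat_g hsq
  haveI := surjective_i hsq hiq hig
  have hb : φ.base = 𝟙 _ := base_eq_id i hiφ
  let h := φ ≫ q
  have hW : ∀ U : X.Opens, q ⁻¹ᵁ U ≤ h ⁻¹ᵁ U := fun U => by
    change q ⁻¹ᵁ U ≤ φ ⁻¹ᵁ (q ⁻¹ᵁ U)
    rw [preimage_eq_of_base hb]
  have hU : ∀ U : X.Opens, U ≤ i ⁻¹ᵁ (q ⁻¹ᵁ U) := fun U => by rw [← Scheme.Hom.comp_preimage, hiq]; rfl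
  have hU' : ∀ U : X.Opens, i ⁻¹ᵁ (q ⁻¹ᵁ U) ≤ U := fun U => by rw [← Scheme.Hom.comp_preimage, hiq]; rfl
  let δ : ∀ U : X.Opens, Γ(X, U) →+* Γ(Y, q ⁻¹ᵁ U) := fun U => (h.appLE U (q ⁻¹ᵁ U) (hW U)).hom
  let π : ∀ U : X.Opens, Γ(Y, q ⁻¹ᵁ U) →+* Γ(X, U) := fun U => (i.appLE (q ⁻¹ᵁ U) U (hU U)).hom
  have hid : ∀ (f : X ⟶ X) (_ : f = 𝟙 X) (U : X.Opens) (e : U ≤ f ⁻¹ᵁ U) (s : Γ(X, U)), f.appLE U U e s = s := by
    rintro _ rfl U e s
    simp only [Scheme.Hom.appLE, Scheme.Hom.id_app]
    change X.presheaf.map _ s = s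
    exact (congrArg (fun f => X.presheaf.map f s) (Subsingleton.elim _ (𝟙 (op U)))).trans
      (ConcreteCategory.congr_hom (X.presheaf.map_id _) s)
  have hπq : ∀ U s, π U (q.app U s) = s := fun U s => by
    change i.appLE _ _ _ (q.app U s) = s
    rw [Scheme.Hom.app_eq_appLE, ← appLE_comp_apply i q _ _ _ le_rfl]
    exact hid _ hiq U _ s
  have hπδ : ∀ U s, π U (δ U s) = s := fun U s =>
    (appLE_comp_apply i h U (q ⁻¹ᵁ U) U (hW U) (hU U) s).symm.trans
      (hid _ (by rw [← Category.assoc, hiφ, hiq]) U _ s)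
  have hker : ∀ (U : X.affineOpens) z, π U z = 0 ↔ z ∈ (maximalIdeal (D1 k)).map (str g (q ⁻¹ᵁ (U : X.Opens))) := by
    intro U z
    rw [← ker_res_eq, ← (ker_app (D1 k).res_surjective (isPullback_fibre hiq hig hsq) (isAffineOpen_preimage hsq U.2)).2.2]
    change i.appLE _ _ _ z = 0 ↔ i.app _ z = 0
    refine ⟨fun h0 => ?_, fun h0 => by rw [← map_app, h0, map_zero]⟩
    have h1 := congrArg (X.presheaf.map (homOfLE (hU' U)).op) h0
    rw [map_zero, ← ConcreteCategory.comp_apply, Scheme.Hom.appLE_map] at h1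
    rwa [Scheme.Hom.app_eq_appLE]
  have hεy : ∀ (U : X.affineOpens) (s : Γ(X, (U : X.Opens))), ∃ y : Γ(Y, q ⁻¹ᵁ (U : X.Opens)), δ U s - q.app U s = eY g (q ⁻¹ᵁ (U : X.Opens)) * y := by
    intro U s
    obtain ⟨y, hy⟩ := split_mem (str g _) (maximalIdeal_D1 (k := k)) ((hker U (δ U s - q.app U s)).1 (by rw [map_sub, hπq, hπδ, sub_self]))
    rw [Ideal.map_bot, Ideal.mem_bot, sub_eq_zero] at hy
    exact ⟨y, hy⟩
  have hcancel : ∀ (U : X.affineOpens) (y : Γ(Y, q ⁻¹ᵁ (U : X.Opens))), eY g _ * y = 0 → π U y = 0 := fun U y hy =>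
    (hker U y).2 (cancel _ (flat_str (isAffineOpen_preimage hsq U.2)) (K' := ⊥) (c := epsD k)
      (fun h0 => epsD_ne_zero (Ideal.mem_bot.1 h0)) (by rw [Ideal.map_bot, Ideal.mem_bot]; exact hy))
  choose y hy using hεy
  have hspec : ∀ (U : X.affineOpens) (s : Γ(X, (U : X.Opens))) z, δ U s - q.app U s = eY g _ * z → π U z = π U (y U s) := by
    intro U s z hz
    rw [← sub_eq_zero, ← map_sub]
    refine hcancel U _ ?_
    rw [mul_sub, ← hz, ← hy, sub_self]
  let dd : ∀ U : X.affineOpens, Γ(X, (U : X.Opens)) →+ Γ(X, (U : X.Opens)) := fun U =>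
    AddMonoidHom.mk' (fun s => π U (y U s)) fun a b => by
      rw [← map_add]
      exact (hspec U (a + b) _ (by rw [map_add, map_add, mul_add, ← hy, ← hy]; ring)).symm
  obtain ⟨D, hD⟩ := exists_sder (i := 𝟙 X) x (Topology.IsInducing.id) dd (fun U (a b : Γ(X, (U : X.Opens))) => by
      change π U (y U (a * b)) = a * π U (y U b) + b * π U (y U a)
      refine (hspec U (a * b) (δ U a * y U b + q.app U b * y U a) ?_).symm.trans ?_
      · rw [map_mul, map_mul]
        linear_combination δ U a * hy U b + q.app U b * hy U a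
      · rw [map_add, map_mul, map_mul, hπδ, hπq])
    (fun U U' hle (s : Γ(X, (U : X.Opens))) => by
      change π U' (y U' (X.presheaf.map (homOfLE hle).op s)) = X.presheaf.map (homOfLE hle).op (π U (y U s))
      refine (hspec U' _ (Y.presheaf.map (homOfLE (q.preimage_mono hle)).op (y U s)) ?_).symm.trans ?_
      · rw [show eY g (q ⁻¹ᵁ (U' : X.Opens)) = Y.presheaf.map (homOfLE (q.preimage_mono hle)).op (eY g (q ⁻¹ᵁ (U : X.Opens)))
            from (map_str g _ _).symm, ← res_q q hle, ← map_mul, ← hy, map_sub]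
        refine congrArg₂ (· - ·) ?_ rfl
        change (h.appLE U'.1 _ _) (X.presheaf.map (homOfLE hle).op s) = Y.presheaf.map _ (h.appLE U.1 _ _ s)
        rw [← ConcreteCategory.comp_apply, ← ConcreteCategory.comp_apply, Scheme.Hom.map_appLE, Scheme.Hom.appLE_map]
      · change i.appLE _ _ _ (Y.presheaf.map _ _) = X.presheaf.map _ (i.appLE _ _ _ _)
        rw [← ConcreteCategory.comp_apply, ← ConcreteCategory.comp_apply, Scheme.Hom.map_appLE, Scheme.Hom.appLE_map])
    (fun U a => by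
      change π U (y U (str x _ a)) = 0
      refine (hspec U _ 0 ?_).symm.trans (map_zero _)
      rw [mul_zero, sub_eq_zero]
      change h.appLE _ _ _ (str x _ a) = q.app _ (str x _ a)
      have hx : h ≫ x = q ≫ x := by
        rw [Category.assoc, hsq.w, ← Category.assoc, hφg]
      rw [appLE_str h hx, Scheme.Hom.app_eq_appLE, appLE_str q rfl])
  refine ⟨D, hsq.hom_ext ?_ (by rw [autHom_snd, hφg])⟩
  rw [autHom_fst]
  have hbase : (pertD q g D).hom.base = h.base := by
    change q.base = φ.base ≫ q.base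
    rw [hb, Category.id_comp]
  refine hom_ext_of_appLE hbase fun U W e e' s => ?_
  have eW : W ≤ q ⁻¹ᵁ U := e
  suffices H : (pertD q g D).δ U s = δ U s by
    rw [Pert.hom_appLE, H]
    change Y.presheaf.map _ (h.appLE U _ _ s) = h.appLE U W e' s
    rw [← ConcreteCategory.comp_apply, Scheme.Hom.appLE_map]
  refine eq_of_affine_pre q fun V => ?_
  rw [← (pertD q g D).res U V.1 V.2 s]
  set t := X.presheaf.map (homOfLE V.2).op s
  have hδ : Y.presheaf.map (homOfLE (q.preimage_mono V.2)).op (δ U s) = δ V.1 t := by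
    change Y.presheaf.map _ (h.appLE U _ _ s) = h.appLE _ _ _ (X.presheaf.map _ s)
    rw [← ConcreteCategory.comp_apply, ← ConcreteCategory.comp_apply, Scheme.Hom.map_appLE, Scheme.Hom.appLE_map]
  rw [hδ, pertD_apply, show D.d V.1 t = π V.1 (y V.1 t) from hD V.1 t, ← eq_sub_iff_add_eq', hy, ← sub_eq_zero, ← mul_sub]
  have hmem := (hker V.1 (q.app _ (π V.1 (y V.1 t)) - y V.1 t)).1 (by rw [map_sub, hπq, sub_self])
  have h2 := Ideal.mul_mem_mul (Ideal.mem_map_of_mem (str g _) (Ideal.mem_span_singleton_self (epsD k))) hmem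
  rw [← Ideal.map_mul] at h2
  have h3 : Ideal.span {epsD k} * maximalIdeal (D1 k) = ⊥ := by
    rw [eq_bot_iff, Ideal.mul_le]
    intro r hr m hm
    obtain ⟨r', rfl⟩ := Ideal.mem_span_singleton'.1 hr
    rw [Ideal.mem_bot, mul_assoc, mul_comm (epsD k), mul_epsD hm, mul_zero]
  rwa [h3, Ideal.map_bot, Ideal.mem_bot] at h2

end Groth.Agent.DefSchLib
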