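import Groth.Agent.DefSchLib.Affine
import Groth.Prelude.Def_ArtFun

/-!
# Fibre products of flat algebras over fibre products of Artinian rings
-/

universe u

open IsLocalRing

noncomputable section

namespace Groth.Agent.DefSchLib

variable {Λ k : Type u} [CommRing Λ] [Field k] [Algebra Λ k]

open ArtFun ArtFun.Art

/-- The augmentation of an object. -/
abbrev resHom (A : Art Λ k) : (A : Type u) →+* k := A.res.toRingHom

lemma ker_resHom (A : Art Λ k) : RingHom.ker (resHom A) = maximalIdeal A := by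
  ext a
  exact ((mem_maximalIdeal_iff A a).trans Iff.rfl).symm

/-- The linear combination map. -/
def comb {A M β : Type u} [CommRing A] [CommRing M] (φ : A →+* M) (v : β → M) (c : β →₀ A) : M :=
  c.sum fun b a => φ a * v b

lemma map_comb {A A' M M' β : Type u} [CommRing A] [CommRing A'] [CommRing M] [CommRing M']
    (φ : A →+* M) (φ' : A' →+* M') (g : M →+* M') (f : A →+* A') (hg : ∀ a, g (φ a) = φ' (f a))
    (v : β → M) (c : β →₀ A) :
    g (comb φ v c) = comb φ' (fun b => g (v b)) (c.mapRange f (map_zero f)) := by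
  rw [comb, comb, map_finsuppSum, Finsupp.sum_mapRange_index (fun b => by rw [map_zero, zero_mul])]
  exact Finsupp.sum_congr fun b _ => by rw [map_mul, hg]

lemma comb_eq_linearCombination {A M β : Type u} [CommRing A] [CommRing M] [Algebra A M] (v : β → M)
    (c : β →₀ A) : comb (algebraMap A M) v c = Finsupp.linearCombination A v c := by
  rw [comb, Finsupp.linearCombination_apply]
  exact Finsupp.sum_congr fun b _ => (Algebra.smul_def _ _).symm

/-- Lifts of a basis of the closed fibre of a flat algebra form a basis. -/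
theorem bijective_comb {A M M₀ : Type u} [CommRing A] [IsLocalRing A] [IsArtinianRing A] [CommRing M]
    [CommRing M₀] (e : A →+* k) (he : Function.Surjective e) (hke : RingHom.ker e = maximalIdeal A)
    (φ : A →+* M) (hφ : φ.Flat) (π : M →+* M₀) (ι : k →+* M₀) (hc : ∀ a, π (φ a) = ι (e a))
    (hk : RingHom.ker π = (maximalIdeal A).map φ) {β : Type u} (v : β → M)
    (hb : Function.Bijective (comb ι fun b => π (v b))) : Function.Bijective (comb φ v) := by
  letI := φ.toAlgebra
  haveI : Module.Flat A M := hφ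
  haveI : Module.Free A M := DefMod95.EndDeform.free_of_flat_of_nilpotent (isNilpotent_max A)
  have hcomb : comb φ v = Finsupp.linearCombination A v := funext fun c => comb_eq_linearCombination v c
  let L := Finsupp.linearCombination A v
  obtain ⟨N, hN⟩ := isNilpotent_max A
  have hπ : ∀ c, π (L c) = comb ι (fun b => π (v b)) (c.mapRange e (map_zero e)) := fun c => by
    rw [← map_comb φ ι π e hc, hcomb]
  have hind : ∀ c, L c ∈ maximalIdeal A • (⊤ : Submodule A M) → ∀ b, c b ∈ maximalIdeal A := by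
    intro c hc' b
    have h1 : π (L c) = 0 := by
      rw [← RingHom.mem_ker, hk]
      rw [Ideal.smul_top_eq_map] at hc'
      exact hc'
    have h0 : comb ι (fun b => π (v b)) 0 = 0 := Finsupp.sum_zero_index
    rw [hπ, ← h0] at h1
    rw [← hke, RingHom.mem_ker]
    exact (Finsupp.mapRange_apply (hf := map_zero e)).symm.trans (DFunLike.congr_fun (hb.1 h1) b)
  have h1 : LinearMap.range L ⊔ maximalIdeal A • ⊤ = (⊤ : Submodule A M) := by
    rw [eq_top_iff]
    intro y _
    obtain ⟨d, hd⟩ := hb.2 (π y)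
    obtain ⟨c, rfl⟩ := Finsupp.mapRange_surjective e (map_zero e) he d
    rw [← hπ] at hd
    refine Submodule.mem_sup.2 ⟨L c, ⟨c, rfl⟩, y - L c, ?_, by abel⟩
    rw [Ideal.smul_top_eq_map]
    show y - L c ∈ (maximalIdeal A).map φ
    rw [← hk, RingHom.mem_ker, map_sub, hd, sub_self]
  have h2 : ∀ n : ℕ, LinearMap.range L ⊔ (maximalIdeal A) ^ n • ⊤ = (⊤ : Submodule A M) := by
    intro n
    induction n with
    | zero => simp [Ideal.map_top]
    | succ n ih =>
      rw [eq_top_iff]
      calc (⊤ : Submodule A M) = LinearMap.range L ⊔ (maximalIdeal A) ^ n •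
            (LinearMap.range L ⊔ (maximalIdeal A) • ⊤) := by rw [h1, ih]
        _ ≤ _ := by
          rw [Submodule.smul_sup, pow_succ, Submodule.mul_smul, ← sup_assoc]
          exact sup_le_sup_right (sup_le le_rfl Submodule.smul_le_right) _
  have hsurj : Function.Surjective L := by
    rw [← LinearMap.range_eq_top]
    have h3 := h2 N
    rw [hN, Submodule.zero_eq_bot, Submodule.bot_smul, sup_bot_eq] at h3
    exact h3
  rw [hcomb]
  refine ⟨(injective_iff_map_eq_zero L).2 fun c hc0 => ?_, hsurj⟩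
  obtain ⟨s, hs⟩ := Module.projective_lifting_property L LinearMap.id hsurj
  have key : ∀ n : ℕ, ∀ b, c b ∈ maximalIdeal A ^ n := by
    intro n
    induction n with
    | zero => simp
    | succ n ih =>
      intro b
      have hc1 : c = ∑ b' ∈ c.support, c b' • (Finsupp.single b' 1 - s (v b')) := by
        have hL : L c = ∑ b' ∈ c.support, c b' • v b' := Finsupp.linearCombination_apply A c
        simp only [smul_sub, Finset.sum_sub_distrib, ← map_smul, ← map_sum, ← hL, hc0, map_zero, sub_zero]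
        simp only [Finsupp.smul_single, smul_eq_mul, mul_one]
        exact (Finsupp.sum_single c).symm
      rw [hc1, Finsupp.finsetSum_apply]
      refine Submodule.sum_mem _ fun b' _ => ?_
      rw [Finsupp.smul_apply, smul_eq_mul, pow_succ]
      refine Ideal.mul_mem_mul (ih b') (hind _ ?_ b)
      rw [map_sub, ← LinearMap.comp_apply, hs, LinearMap.id_apply]
      show Finsupp.linearCombination A v _ - _ ∈ _
      rw [Finsupp.linearCombination_single, one_smul, sub_self]
      exact zero_mem _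
  ext b
  have := key N b
  rw [hN] at this
  exact Ideal.mem_bot.1 this

variable {B A A₁ A₂ : Art Λ k} {p₁ : B ⟶ A₁} {p₂ : B ⟶ A₂} {f₁ : A₁ ⟶ A} {f₂ : A₂ ⟶ A}

/-- The fibre product of flat algebras is flat with the right closed fibre. -/
theorem flat_fibre_prod (h : IsFibreProd p₁ p₂ f₁ f₂) {R M M₁ M₂ M₀ : Type u} [CommRing R] [CommRing M]
    [CommRing M₁] [CommRing M₂] [CommRing M₀] (φB : (B : Type u) →+* R) (φ₁ : (A₁ : Type u) →+* M₁)
    (φ₂ : (A₂ : Type u) →+* M₂) (φ : (A : Type u) →+* M) (a₁ : R →+* M₁) (a₂ : R →+* M₂) (g₁ : M₁ →+* M)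
    (g₂ : M₂ →+* M) (π : M →+* M₀) (ι : k →+* M₀) (hF : φ.Flat) (hF₁ : φ₁.Flat) (hF₂ : φ₂.Flat)
    (hg₁ : ∀ a, g₁ (φ₁ a) = φ (f₁ a)) (hg₂ : ∀ a, g₂ (φ₂ a) = φ (f₂ a))
    (ha₁ : ∀ b, a₁ (φB b) = φ₁ (p₁ b)) (ha₂ : ∀ b, a₂ (φB b) = φ₂ (p₂ b))
    (hc : ∀ a, π (φ a) = ι (A.res a)) (hk : RingHom.ker π = (maximalIdeal A).map φ)
    (hk₁ : RingHom.ker (π.comp g₁) = (maximalIdeal A₁).map φ₁) (hs₁ : Function.Surjective (π.comp g₁))
    (hk₂ : RingHom.ker (π.comp g₂) = (maximalIdeal A₂).map φ₂)
    (hg₂s : Function.Surjective g₂) (hw : ∀ r, g₁ (a₁ r) = g₂ (a₂ r))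
    (hinj : ∀ r r', a₁ r = a₁ r' → a₂ r = a₂ r' → r = r')
    (hex : ∀ s t, g₁ s = g₂ t → ∃ r, a₁ r = s ∧ a₂ r = t) :
    φB.Flat ∧ Function.Surjective ((π.comp g₁).comp a₁) ∧
      RingHom.ker ((π.comp g₁).comp a₁) = (maximalIdeal B).map φB := by
  classical
  letI := ι.toAlgebra
  let b₀ := Module.Free.chooseBasis k M₀
  choose v hv using fun b => hs₁ (b₀ b)
  choose w hw' using fun b => hg₂s (g₁ (v b))
  choose r hr₁ hr₂ using fun b => hex (v b) (w b) (hw' b).symm
  have hb0 : Function.Bijective (comb ι fun b => b₀ b) := by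
    have h0 : comb ι (fun b => b₀ b) = b₀.repr.symm := funext fun c => by
      rw [show comb ι (fun b => b₀ b) c = Finsupp.linearCombination k b₀ c from comb_eq_linearCombination _ c]
      exact (Module.Basis.repr_symm_apply b₀ c).symm
    rw [h0]
    exact b₀.repr.symm.bijective
  have hc₁ : ∀ a, π.comp g₁ (φ₁ a) = ι (resHom A₁ a) := fun a => by
    rw [RingHom.comp_apply, hg₁, hc]
    exact congrArg ι (res_app f₁ a)
  have hc₂ : ∀ a, π.comp g₂ (φ₂ a) = ι (resHom A₂ a) := fun a => by
    rw [RingHom.comp_apply, hg₂, hc]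
    exact congrArg ι (res_app f₂ a)
  have hL₁ : Function.Bijective (comb φ₁ v) :=
    bijective_comb (resHom A₁) A₁.res_surjective (ker_resHom A₁) φ₁ hF₁ (π.comp g₁) ι hc₁ hk₁ v
      (by simpa only [hv] using hb0)
  have hL₂ : Function.Bijective (comb φ₂ w) :=
    bijective_comb (resHom A₂) A₂.res_surjective (ker_resHom A₂) φ₂ hF₂ (π.comp g₂) ι hc₂ hk₂ w (by
      simp only [RingHom.comp_apply, hw']
      simpa only [RingHom.comp_apply] using (by simpa only [hv] using hb0 :
        Function.Bijective (comb ι fun b => (π.comp g₁) (v b))))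
  have hL : Function.Bijective (comb φ fun b => g₁ (v b)) :=
    bijective_comb (resHom A) A.res_surjective (ker_resHom A) φ hF π ι hc hk _ (by
      simpa only [RingHom.comp_apply] using (by simpa only [hv] using hb0 :
        Function.Bijective (comb ι fun b => (π.comp g₁) (v b))))
  have e₁ : ∀ c, a₁ (comb φB r c) = comb φ₁ v (c.mapRange p₁ (map_zero p₁.toAlgHom)) := fun c => by
    rw [map_comb φB φ₁ a₁ p₁.toAlgHom.toRingHom ha₁, funext hr₁]
    rfl
  have e₂ : ∀ c, a₂ (comb φB r c) = comb φ₂ w (c.mapRange p₂ (map_zero p₂.toAlgHom)) := fun c => by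
    rw [map_comb φB φ₂ a₂ p₂.toAlgHom.toRingHom ha₂, funext hr₂]
    rfl
  have hR : Function.Bijective (comb φB r) := by
    refine ⟨fun c c' hcc => ?_, fun x => ?_⟩
    · ext b
      have q₁ := hL₁.1 ((e₁ c).symm.trans ((congrArg a₁ hcc).trans (e₁ c')))
      have q₂ := hL₂.1 ((e₂ c).symm.trans ((congrArg a₂ hcc).trans (e₂ c')))
      exact h.inj _ _ (by simpa using DFunLike.congr_fun q₁ b) (by simpa using DFunLike.congr_fun q₂ b)
    · obtain ⟨c₁, hc1⟩ := hL₁.2 (a₁ x)
      obtain ⟨c₂, hc2⟩ := hL₂.2 (a₂ x)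
      have he : ∀ b, f₁ (c₁ b) = f₂ (c₂ b) := by
        intro b
        have q1 := map_comb φ₁ φ g₁ f₁.toAlgHom.toRingHom hg₁ v c₁
        have q2 := map_comb φ₂ φ g₂ f₂.toAlgHom.toRingHom hg₂ w c₂
        rw [hc1] at q1
        rw [hc2, ← hw x, funext hw'] at q2
        have := DFunLike.congr_fun (hL.1 (q1.symm.trans q2)) b
        rw [Finsupp.mapRange_apply, Finsupp.mapRange_apply] at this
        exact this
      choose c hcp hcq using fun b => h.surj _ _ (he b)
      have hz : ∀ b, c b ≠ 0 → b ∈ c₁.support ∪ c₂.support := by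
        intro b hb
        by_contra hn
        rw [Finset.mem_union, not_or, Finsupp.notMem_support_iff, Finsupp.notMem_support_iff] at hn
        refine hb (h.inj _ 0 ?_ ?_)
        · rw [hcp, hn.1]; exact (map_zero p₁.toAlgHom).symm
        · rw [hcq, hn.2]; exact (map_zero p₂.toAlgHom).symm
      refine ⟨Finsupp.onFinset (c₁.support ∪ c₂.support) c hz, hinj _ _ ?_ ?_⟩
      · rw [e₁, ← hc1]
        congr 1
        ext b
        simp [hcp]
      · rw [e₂, ← hc2]
        congr 1
        ext b
        simp [hcq]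
  have hval : ∀ c, (π.comp g₁).comp a₁ (comb φB r c) =
      comb ι (fun b => b₀ b) (c.mapRange (resHom B) (map_zero _)) := fun c => by
    rw [map_comb φB ι ((π.comp g₁).comp a₁) (resHom B) (fun b => ?_) r c]
    · congr 1
      ext b
      rw [RingHom.comp_apply, hr₁, hv]
    · rw [RingHom.comp_apply, ha₁, hc₁]
      exact congrArg ι (res_app p₁ b)
  refine ⟨?_, fun y => ?_, le_antisymm (fun x hx => ?_) ?_⟩
  · algebraize [φB]
    have hlin : comb φB r = Finsupp.linearCombination B r := funext fun c => comb_eq_linearCombination r c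
    rw [hlin] at hR
    haveI : Module.Free B R := Module.Free.of_basis (Module.Basis.ofRepr (LinearEquiv.ofBijective _ hR).symm)
    exact (inferInstance : Module.Flat B R)
  · obtain ⟨d, rfl⟩ := hb0.2 y
    obtain ⟨c, rfl⟩ := Finsupp.mapRange_surjective (resHom B) (map_zero _) B.res_surjective d
    exact ⟨_, hval c⟩
  · obtain ⟨c, rfl⟩ := hR.2 x
    rw [RingHom.mem_ker, hval] at hx
    have h0 : comb ι (fun b => b₀ b) 0 = 0 := Finsupp.sum_zero_index
    rw [← h0] at hx
    refine Submodule.sum_mem _ fun b _ => Ideal.mul_mem_right _ _ (Ideal.mem_map_of_mem φB ?_)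
    rw [← ker_resHom, RingHom.mem_ker]
    exact (Finsupp.mapRange_apply (hf := map_zero (resHom B))).symm.trans (DFunLike.congr_fun (hb0.1 hx) b)
  · rw [Ideal.map_le_iff_le_comap]
    intro b hb
    rw [Ideal.mem_comap, RingHom.mem_ker, RingHom.comp_apply, ha₁, hc₁]
    rw [← ker_resHom] at hb
    rw [show resHom A₁ (p₁ b) = resHom B b from res_app p₁ b, RingHom.mem_ker.1 hb, map_zero]

end Groth.Agent.DefSchLib
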