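import Groth.Agent.DefSchLib.Aut
import Groth.Agent.DefSchLib.FibAlg
import Groth.Agent.AffDef.Trivial
import Groth.Agent.FlatMisc.SchemePushout
import Groth.Agent.S0440
import Groth.Prelude.Def_ArtFun4

/-!
# Morphisms of deformations, and local criteria
-/

universe u

open CategoryTheory AlgebraicGeometry IsLocalRing Limits TopologicalSpace

noncomputable section

namespace Groth.Agent.DefSchLib

section Local

variable {C K : Type u} [CommRing C] [CommRing K] {e : C →+* K} {X P : Scheme.{u}}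
  {g : P ⟶ Spec (CommRingCat.of C)} {i : X ⟶ P} {x : X ⟶ Spec (CommRingCat.of K)}

lemma appLE_of_eq (i : X ⟶ P) {U : P.Opens} {O : X.Opens} (h : O = i ⁻¹ᵁ U) {I : Ideal Γ(P, U)}
    (hs : Function.Surjective (i.app U).hom ∧ RingHom.ker (i.app U).hom = I) :
    Function.Surjective (i.appLE U O h.le).hom ∧ RingHom.ker (i.appLE U O h.le).hom = I := by
  subst h
  rw [Scheme.Hom.app_eq_appLE] at hs
  exact hs

/-- The closed fibre on an affine chart, with the source open given. -/
theorem ker_appLE (he : Function.Surjective e) (hsq : IsPullback i x g (Spec.map (CommRingCat.ofHom e)))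
    {U : P.Opens} (hU : IsAffineOpen U) {O : X.Opens} (h : O = i ⁻¹ᵁ U) :
    Function.Surjective (i.appLE U O h.le).hom ∧
      RingHom.ker (i.appLE U O h.le).hom = (RingHom.ker e).map (str g U) :=
  appLE_of_eq i h ⟨(ker_app he hsq hU).1, (ker_app he hsq hU).2.2⟩

/-- A square is cartesian when it is so on an affine cover. -/
theorem isPullback_of_cover (he : Function.Surjective e) [IsClosedImmersion i]
    (hw : i ≫ g = x ≫ Spec.map (CommRingCat.ofHom e)) {ι : Type*} (W : ι → P.affineOpens)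
    (hW : ⨆ p, (W p : P.Opens) = ⊤)
    (h : ∀ p, RingHom.ker (i.app (W p)).hom = (RingHom.ker e).map (str g (W p))) :
    IsPullback i x g (Spec.map (CommRingCat.ofHom e)) := by
  haveI : IsClosedImmersion (Spec.map (CommRingCat.ofHom e)) := IsClosedImmersion.spec_of_surjective _ he
  have hsq := IsPullback.of_hasPullback g (Spec.map (CommRingCat.ofHom e))
  set q := pullback.fst g (Spec.map (CommRingCat.ofHom e))
  haveI : IsClosedImmersion q := inferInstance
  have hker : i.ker = q.ker := by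
    refine Scheme.IdealSheafData.ext_of_iSup_eq_top W hW fun p => ?_
    rw [Scheme.Hom.ker_apply, Scheme.Hom.ker_apply, h p, (ker_app he hsq (W p).2).2.2]
  let α := IsClosedImmersion.lift q i hker.ge
  let β := IsClosedImmersion.lift i q hker.le
  have hα : α ≫ q = i := IsClosedImmersion.lift_fac _ _ _
  have hβ : β ≫ i = q := IsClosedImmersion.lift_fac _ _ _
  let E : X ≅ pullback g (Spec.map (CommRingCat.ofHom e)) :=
    ⟨α, β, by rw [← cancel_mono i, Category.assoc, hβ, hα, Category.id_comp],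
      by rw [← cancel_mono q, Category.assoc, hα, hβ, Category.id_comp]⟩
  refine IsPullback.of_iso_pullback ⟨hw⟩ E hα ?_
  rw [← cancel_mono (Spec.map (CommRingCat.ofHom e)), Category.assoc, ← pullback.condition, ← hw]
  exact (Category.assoc _ _ _).symm.trans (congrArg (· ≫ g) hα)

/-- Flatness on an affine cover. -/
theorem flat_of_cover {ι : Type u} (W : ι → P.affineOpens) (hW : ⨆ p, (W p : P.Opens) = ⊤)
    (h : ∀ p, (str g (W p)).Flat) : Flat g := by
  refine (HasRingHomProperty.iff_of_iSup_eq_top (P := @Flat) W hW).2 fun p => ?_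
  have h1 : (Scheme.ΓSpecIso (CommRingCat.of C)).hom ≫ ((Scheme.ΓSpecIso (CommRingCat.of C)).inv ≫
      g.appLE ⊤ (W p) le_top) = g.appLE ⊤ (W p) le_top := Iso.hom_inv_id_assoc _ _
  rw [← h1, CommRingCat.hom_comp]
  exact RingHom.Flat.comp (RingHom.Flat.of_bijective
    (Scheme.ΓSpecIso (CommRingCat.of C)).commRingCatIsoToRingEquiv.bijective) (h p)

end Local

section Deformations

open ArtFun ArtFun.Art

variable {Λ k : Type u} [CommRing Λ] [Field k] [Algebra Λ k] {X : Scheme.{u}} {x : X ⟶ specPt k} {A A' : Art Λ k}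

instance (ξ : DefSch X x A) : IsClosedImmersion ξ.i := by
  haveI : IsClosedImmersion (specRes A) := IsClosedImmersion.spec_of_surjective _ A.res_surjective
  exact MorphismProperty.of_isPullback ξ.isPullback.flip inferInstance

instance (ξ : DefSch X x A) : AlgebraicGeometry.Surjective ξ.i :=
  surjective_fibre (e := resHom A) A.res_surjective (ker_resHom A) ξ.isPullback

/-- A morphism of deformations is affine. -/
theorem isAffine_preimage {ξ : DefSch X x A} {ξ' : DefSch X x A'} (ψ : ξ.total ⟶ ξ'.total) (hi : ξ.i ≫ ψ = ξ'.i)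
    {U : ξ'.total.Opens} (hU : IsAffineOpen U) : IsAffineOpen (ψ ⁻¹ᵁ U) := by
  haveI : IsAffine (ξ.i ⁻¹ᵁ (ψ ⁻¹ᵁ U)).toScheme := by
    have h : IsAffineOpen ((ξ.i ≫ ψ) ⁻¹ᵁ U) := by rw [hi]; exact hU.preimage _
    rw [Scheme.Hom.comp_preimage] at h
    exact h
  haveI : IsClosedImmersion (ξ.i ∣_ (ψ ⁻¹ᵁ U)) := IsZariskiLocalAtTarget.restrict (P := @IsClosedImmersion) inferInstance _
  haveI : AlgebraicGeometry.Surjective (ξ.i ∣_ (ψ ⁻¹ᵁ U)) := IsZariskiLocalAtTarget.restrict (P := @AlgebraicGeometry.Surjective) inferInstance _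
  exact S0440.result (ξ.i ∣_ (ψ ⁻¹ᵁ U)) (ξ.i ∣_ (ψ ⁻¹ᵁ U)).surjective

/-- A morphism of deformations over the same base is an isomorphism. -/
theorem isIso_hom {ξ ξ' : DefSch X x A} (ψ : ξ.total ⟶ ξ'.total) (hf : ψ ≫ ξ'.f = ξ.f) (hi : ξ.i ≫ ψ = ξ'.i) :
    IsIso ψ := by
  show MorphismProperty.isomorphisms Scheme ψ
  refine (HasAffineProperty.iff_of_iSup_eq_top (P := MorphismProperty.isomorphisms Scheme)
    (fun U : ξ'.total.affineOpens => U) (iSup_affineOpens_eq_top _)).2 fun U => ?_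
  have hV : IsAffineOpen (ψ ⁻¹ᵁ U) := isAffine_preimage ψ hi U.2
  refine ⟨hV, ?_⟩
  haveI := ξ.flat
  obtain ⟨s', hk'⟩ := ker_appLE (e := resHom A) A.res_surjective ξ'.isPullback U.2
    (O := ξ.i ⁻¹ᵁ (ψ ⁻¹ᵁ U)) (by rw [← Scheme.Hom.comp_preimage, hi])
  obtain ⟨s, hk⟩ := ker_appLE (e := resHom A) A.res_surjective ξ.isPullback hV (O := ξ.i ⁻¹ᵁ (ψ ⁻¹ᵁ U)) rfl
  rw [ker_resHom] at hk hk'
  have hb : Function.Bijective (ψ.app U).hom := by
    refine AffDef.bijective_hom (str ξ'.f U) (str ξ.f (ψ ⁻¹ᵁ U)) (flat_str hV) _ _ s' hk' hk (ψ.app U).hom ?_ ?_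
    · ext c
      rw [RingHom.comp_apply, Scheme.Hom.app_eq_appLE]
      exact appLE_str ψ hf U _ le_rfl c
    · ext s
      rw [RingHom.comp_apply, Scheme.Hom.app_eq_appLE]
      exact (appLE_comp_apply ξ.i ψ U _ _ le_rfl le_rfl s).symm.trans (appLE_congr_hom hi _ _ _ s)
  rw [morphismRestrict_appTop]
  refine (ConcreteCategory.isIso_iff_bijective _).2 ?_
  have hO : ∀ O : ξ'.total.Opens, O = (U : ξ'.total.Opens) → Function.Bijective (ψ.app O) := fun O e => e ▸ hb
  exact (FlatMisc.SchemePushout.bijective_map_eqToHom (image_morphismRestrict_preimage ψ U ⊤)).comp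
    (hO _ (Scheme.Opens.ι_image_top _))

/-- The isomorphism given by a morphism of deformations. -/
def isoOfHom {ξ ξ' : DefSch X x A} (ψ : ξ.total ⟶ ξ'.total) (hf : ψ ≫ ξ'.f = ξ.f) (hi : ξ.i ≫ ψ = ξ'.i) :
    ξ.Iso ξ' :=
  haveI := isIso_hom ψ hf hi
  ⟨asIso ψ, hf, hi⟩

/-- A morphism of deformations over `g` is a base change. -/
theorem nonempty_iso_baseChange {ξ : DefSch X x A} {ξ' : DefSch X x A'} (g : A ⟶ A') (j : ξ'.total ⟶ ξ.total)
    (hf : j ≫ ξ.f = ξ'.f ≫ specMap g) (hi : ξ'.i ≫ j = ξ.i) :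
    ∃ e : ξ'.Iso (ξ.baseChange g), e.iso.hom ≫ pullback.fst ξ.f (specMap g) = j := by
  refine ⟨isoOfHom (pullback.lift j ξ'.f hf) (pullback.lift_snd _ _ _) ?_, pullback.lift_fst _ _ _⟩
  apply pullback.hom_ext
  · rw [Category.assoc, pullback.lift_fst, hi, DefSch.baseChange_i_fst]
  · rw [Category.assoc, pullback.lift_snd]
    exact ξ'.i_f.trans (DefSch.baseChange_i_f ξ g).symm

end Deformations

end Groth.Agent.DefSchLib
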