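import Groth.Agent.DefSchLib.DefHom

/-!
# Gluing deformations over a fibre product of Artinian rings
-/

universe u

open CategoryTheory AlgebraicGeometry IsLocalRing Limits TopologicalSpace Opposite

noncomputable section

namespace Groth.Agent.DefSchLib

open ArtFun ArtFun.Art FlatMisc.SchemePushout

/-- Pushouts along a homeomorphic closed immersion, with the sections. -/
theorem exists_pushout' {Z S T : Scheme.{u}} (i : Z ⟶ S) (j : Z ⟶ T) [IsClosedImmersion i]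
    [AlgebraicGeometry.Surjective i] [IsAffineHom j] :
    ∃ (P : Scheme.{u}) (a : S ⟶ P) (b : T ⟶ P), IsPushout i j a b ∧
      IsPushout i.toLRSHom j.toLRSHom a.toLRSHom b.toLRSHom ∧ IsClosedImmersion b ∧
      ∃ W : P → P.affineOpens, (⨆ p, (W p : P.Opens) = ⊤) ∧
        ∀ p, IsAffineOpen (a ⁻¹ᵁ (W p)) ∧ IsAffineOpen (b ⁻¹ᵁ (W p)) := by
  have hpo := IsPushout.of_hasPushout (C := LocallyRingedSpace.{u}) i.toLRSHom j.toLRSHom
  set PL := pushout i.toLRSHom j.toLRSHom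
  set aL := pushout.inl i.toLRSHom j.toLRSHom
  set bL := pushout.inr i.toLRSHom j.toLRSHom
  have hy : ∀ y : T, ∃ W : Opens PL, bL.base y ∈ W ∧ IsAffineOpen ((Opens.map aL.base).obj W) ∧
      IsAffineOpen ((Opens.map bL.base).obj W) := by
    intro y
    obtain ⟨V, hV, hyV, -⟩ := exists_isAffineOpen_mem_and_subset (X := T) (U := ⊤) (x := y) trivial
    let U : S.Opens := ⟨(i '' (j ⁻¹ᵁ V : Set Z)ᶜ)ᶜ,
      (i.isClosedEmbedding.isClosedMap _ (j ⁻¹ᵁ V).2.isClosed_compl).isOpen_compl⟩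
    have e : i ⁻¹ᵁ U = j ⁻¹ᵁ V := by
      ext z
      show i z ∈ (i '' (j ⁻¹ᵁ V : Set Z)ᶜ)ᶜ ↔ _
      rw [Set.mem_compl_iff, Function.Injective.mem_set_image i.isClosedEmbedding.injective, Set.mem_compl_iff,
        not_not]
    have hU : IsAffineOpen U := by
      haveI : IsAffine (i ⁻¹ᵁ U).toScheme := e ▸ hV.preimage j
      haveI : IsClosedImmersion (i ∣_ U) := IsZariskiLocalAtTarget.restrict (P := @IsClosedImmersion) inferInstance _
      haveI : AlgebraicGeometry.Surjective (i ∣_ U) :=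
        IsZariskiLocalAtTarget.restrict (P := @AlgebraicGeometry.Surjective) inferInstance _
      exact S0440.result (i ∣_ U) (i ∣_ U).surjective
    obtain ⟨W, hWa, hWb⟩ := exists_open i j hpo U V e
    refine ⟨W, ?_, hWa ▸ hU, hWb ▸ hV⟩
    show y ∈ (Opens.map bL.base).obj W
    rw [hWb]
    exact hyV
  have cov : ∀ p : PL, ∃ W : Opens PL, p ∈ W ∧ IsAffineOpen ((Opens.map aL.base).obj W) ∧
      IsAffineOpen ((Opens.map bL.base).obj W) := by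
    intro p
    rcases jointly_surjective i j hpo p with ⟨x, rfl⟩ | ⟨y, rfl⟩
    · obtain ⟨z, rfl⟩ := i.surjective x
      have : aL.base (i z) = bL.base (j z) :=
        congrArg (fun k : Z.toLocallyRingedSpace ⟶ PL => k.base z) hpo.w
      rw [this]
      exact hy (j z)
    · exact hy y
  let P : Scheme.{u} :=
    { toLocallyRingedSpace := PL
      local_affine := fun p => by
        obtain ⟨W, hp, ha, hb⟩ := cov p
        have h := local_affine_aux i j hpo W ha hb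
        exact ⟨⟨W, hp⟩, LocallyRingedSpace.Γ.obj (op (res W)), ⟨@asIso _ _ _ _ _ h⟩⟩ }
  let a : S ⟶ P := ⟨aL⟩
  let b : T ⟶ P := ⟨bL⟩
  have hsq : IsPushout i j a b := by
    refine IsPushout.of_map Scheme.forgetToLocallyRingedSpace ?_ hpo
    exact Scheme.forgetToLocallyRingedSpace.map_injective hpo.w
  let W : P → P.Opens := fun p => (cov p).choose
  have hWa : ∀ p, IsAffineOpen (a ⁻¹ᵁ W p) := fun p => (cov p).choose_spec.2.1
  have hWb : ∀ p, IsAffineOpen (b ⁻¹ᵁ W p) := fun p => (cov p).choose_spec.2.2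
  have hW : ∀ p : P, IsAffineOpen (W p) := fun p => by
    haveI := local_affine_aux i j hpo (W p) (hWa p) (hWb p)
    show IsAffine (W p).toScheme
    exact IsAffine.of_isIso ((Scheme.forgetToLocallyRingedSpace.preimageIso
      (X := (W p).toScheme) (Y := Spec (LocallyRingedSpace.Γ.obj (op (res (W p)))))
      (@asIso _ _ _ _ _ (local_affine_aux i j hpo (W p) (hWa p) (hWb p)))).hom)
  have hsup : ⨆ p : P, (W p) = ⊤ :=
    top_le_iff.mp fun p _ => Opens.mem_iSup.mpr ⟨p, (cov p).choose_spec.1⟩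
  let WA : P → P.affineOpens := fun p => ⟨W p, hW p⟩
  have eW : ∀ p, i ⁻¹ᵁ a ⁻¹ᵁ W p = j ⁻¹ᵁ b ⁻¹ᵁ W p := fun p => preimage_eq i j hpo (W p)
  have hb : IsClosedImmersion b := by
    refine (HasAffineProperty.iff_of_iSup_eq_top (P := @IsClosedImmersion) WA hsup).mpr fun p => ?_
    refine ⟨hWb p, surjective_appTop b (W p) fun t => ?_⟩
    obtain ⟨s, hs⟩ := i.app_surjective (a ⁻¹ᵁ W p) (hWa p) (j.appLE _ _ (eW p).le t)
    obtain ⟨r, -, hr⟩ := sections_exists i j hpo (W p) s t (by rw [Scheme.Hom.appLE_eq_app]; exact hs)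
    exact ⟨r, hr⟩
  exact ⟨P, a, b, hsq, hpo, hb, WA, hsup, fun p => ⟨hWa p, hWb p⟩⟩

variable {Λ k : Type u} [CommRing Λ] [Field k] [Algebra Λ k] {X : Scheme.{u}} {x : X ⟶ specPt k}
variable {B A A₁ A₂ : Art Λ k} {p₁ : B ⟶ A₁} {p₂ : B ⟶ A₂} {f₁ : A₁ ⟶ A} {f₂ : A₂ ⟶ A}

/-- Deformations over `A₁` and `A₂` agreeing over `A` glue over `A₁ ×_A A₂`. -/
theorem exists_glueing (h : IsFibreProd p₁ p₂ f₁ f₂) {ξ : DefSch X x A} {ξ₁ : DefSch X x A₁}
    {ξ₂ : DefSch X x A₂} (j₁ : ξ.total ⟶ ξ₁.total) [IsAffineHom j₁] (hj₁ : j₁ ≫ ξ₁.f = ξ.f ≫ specMap f₁)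
    (hi₁ : ξ.i ≫ j₁ = ξ₁.i) (j₂ : ξ.total ⟶ ξ₂.total) [IsClosedImmersion j₂]
    (hj₂ : j₂ ≫ ξ₂.f = ξ.f ≫ specMap f₂) (hi₂ : ξ.i ≫ j₂ = ξ₂.i) :
    ∃ (η : DefSch X x B) (a : ξ₂.total ⟶ η.total) (b : ξ₁.total ⟶ η.total), IsPushout j₂ j₁ a b ∧
      a ≫ η.f = ξ₂.f ≫ specMap p₂ ∧ b ≫ η.f = ξ₁.f ≫ specMap p₁ ∧ ξ₁.i ≫ b = η.i ∧ ξ₂.i ≫ a = η.i := by
  haveI : AlgebraicGeometry.Surjective j₂ := by
    haveI : AlgebraicGeometry.Surjective (ξ.i ≫ j₂) := by rw [hi₂]; infer_instance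
    exact AlgebraicGeometry.Surjective.of_comp ξ.i j₂
  obtain ⟨P, a, b, hsq, hpo, hb, W, hsup, hW⟩ := exists_pushout' j₂ j₁
  have hw : j₂ ≫ ξ₂.f ≫ specMap p₂ = j₁ ≫ ξ₁.f ≫ specMap p₁ := by
    rw [reassoc_of% hj₂, reassoc_of% hj₁, ← specMap_comp, ← specMap_comp, h.w]
  let g : P ⟶ spec B := hsq.desc (ξ₂.f ≫ specMap p₂) (ξ₁.f ≫ specMap p₁) hw
  have hga : a ≫ g = ξ₂.f ≫ specMap p₂ := hsq.inl_desc _ _ hw
  have hgb : b ≫ g = ξ₁.f ≫ specMap p₁ := hsq.inr_desc _ _ hw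
  haveI := hb
  haveI : IsClosedImmersion (ξ₁.i ≫ b) := inferInstance
  have hwi : (ξ₁.i ≫ b) ≫ g = x ≫ specRes B := by
    rw [Category.assoc, hgb, reassoc_of% ξ₁.i_f, specRes_comp]
  haveI := ξ.flat
  haveI := ξ₁.flat
  haveI := ξ₂.flat
  have key : ∀ p, (str g (W p)).Flat ∧
      RingHom.ker ((ξ₁.i ≫ b).app (W p)).hom = (RingHom.ker (resHom B)).map (str g (W p)) := by
    intro p
    obtain ⟨ha, hb'⟩ := hW p
    set U₂ := a ⁻¹ᵁ (W p : P.Opens)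
    set U₁ := b ⁻¹ᵁ (W p : P.Opens)
    set O := j₂ ⁻¹ᵁ U₂
    have eO : O = j₁ ⁻¹ᵁ U₁ := preimage_eq j₂ j₁ hpo (W p : P.Opens)
    have hO : IsAffineOpen O := ha.preimage j₂
    set O₀ := ξ.i ⁻¹ᵁ O
    obtain ⟨sπ, kπ⟩ := ker_appLE (e := resHom A) A.res_surjective ξ.isPullback hO (O := O₀) rfl
    obtain ⟨sπ₁, kπ₁⟩ := ker_appLE (e := resHom A₁) (i := ξ.i ≫ j₁) A₁.res_surjective
      (by rw [hi₁]; exact ξ₁.isPullback) hb' (O := O₀) (congrArg (ξ.i ⁻¹ᵁ ·) eO)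
    obtain ⟨-, kπ₂⟩ := ker_appLE (e := resHom A₂) (i := ξ.i ≫ j₂) A₂.res_surjective
      (by rw [hi₂]; exact ξ₂.isPullback) ha (O := O₀) rfl
    have e₁ : (ξ.i.appLE O O₀ le_rfl).hom.comp (j₁.appLE U₁ O eO.le).hom =
        ((ξ.i ≫ j₁).appLE U₁ O₀ (congrArg (ξ.i ⁻¹ᵁ ·) eO).le).hom := by
      rw [← CommRingCat.hom_comp, Scheme.Hom.appLE_comp_appLE]
    have e₂ : (ξ.i.appLE O O₀ le_rfl).hom.comp (j₂.appLE U₂ O le_rfl).hom =
        ((ξ.i ≫ j₂).appLE U₂ O₀ le_rfl).hom := by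
      rw [← CommRingCat.hom_comp, Scheme.Hom.appLE_comp_appLE]
    rw [← e₁, ker_resHom] at kπ₁
    rw [← e₂, ker_resHom] at kπ₂
    rw [← e₁] at sπ₁
    rw [ker_resHom] at kπ
    have hg₂s : Function.Surjective (j₂.appLE U₂ O le_rfl).hom := by
      rw [← Scheme.Hom.app_eq_appLE]
      exact j₂.app_surjective U₂ ha
    obtain ⟨hflat, -, hker⟩ := flat_fibre_prod h (str g (W p)) (str ξ₁.f U₁) (str ξ₂.f U₂) (str ξ.f O)
      (b.appLE (W p) U₁ le_rfl).hom (a.appLE (W p) U₂ le_rfl).hom (j₁.appLE U₁ O eO.le).hom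
      (j₂.appLE U₂ O le_rfl).hom (ξ.i.appLE O O₀ le_rfl).hom (str x O₀) (flat_str hO) (flat_str hb') (flat_str ha)
      (fun c => (appLE_str j₁ hj₁ U₁ O eO.le c).trans (str_comp_specMap ξ.f _ O c))
      (fun c => (appLE_str j₂ hj₂ U₂ O le_rfl c).trans (str_comp_specMap ξ.f _ O c))
      (fun c => (appLE_str b hgb (W p) U₁ le_rfl c).trans (str_comp_specMap ξ₁.f _ U₁ c))
      (fun c => (appLE_str a hga (W p) U₂ le_rfl c).trans (str_comp_specMap ξ₂.f _ U₂ c))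
      (fun c => (appLE_str ξ.i ξ.i_f O O₀ le_rfl c).trans (str_comp_specMap x _ O₀ c))
      kπ kπ₁ sπ₁ kπ₂ hg₂s
      (fun r => ((appLE_comp_apply j₁ b (W p) U₁ O le_rfl eO.le r).symm.trans
        (appLE_congr_hom hsq.w.symm _ _ _ r)).trans (appLE_comp_apply j₂ a (W p) U₂ O le_rfl le_rfl r))
      (fun r r' h₁ h₂ => by
        rw [← Scheme.Hom.app_eq_appLE] at h₁ h₂
        exact sections_injective j₂ j₁ hpo (W p : P.Opens) r r' h₂ h₁)
      (fun s t hst => by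
        obtain ⟨r, hr₂, hr₁⟩ := sections_exists j₂ j₁ hpo (W p : P.Opens) t s hst.symm
        refine ⟨r, ?_, ?_⟩ <;> rw [← Scheme.Hom.app_eq_appLE]
        exacts [hr₁, hr₂])
    refine ⟨hflat, ?_⟩
    have hO₀ : O₀ = (ξ₁.i ≫ b) ⁻¹ᵁ (W p : P.Opens) := by
      rw [Scheme.Hom.comp_preimage, ← hi₁, Scheme.Hom.comp_preimage]
      exact congrArg (ξ.i ⁻¹ᵁ ·) eO
    have h3 : ((ξ.i.appLE O O₀ le_rfl).hom.comp (j₁.appLE U₁ O eO.le).hom).comp (b.appLE (W p) U₁ le_rfl).hom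
        = ((ξ₁.i ≫ b).appLE (W p) O₀ hO₀.le).hom := by
      ext s
      rw [RingHom.comp_apply, RingHom.comp_apply]
      refine ((congrArg _ (appLE_comp_apply j₁ b (W p) U₁ O le_rfl eO.le s).symm).trans ?_)
      refine (appLE_comp_apply ξ.i (j₁ ≫ b) (W p) O O₀ _ le_rfl s).symm.trans ?_
      exact appLE_congr_hom (by rw [← Category.assoc, hi₁]) _ _ _ s
    rw [h3] at hker
    rw [ker_resHom, ← hker]
    ext s
    rw [RingHom.mem_ker, RingHom.mem_ker, Scheme.Hom.app_eq_appLE]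
    generalize hO₀.le = hle
    revert hle
    rw [hO₀]
    exact fun _ => Iff.rfl
  let η : DefSch X x B :=
    { total := P
      f := g
      flat := flat_of_cover W hsup fun p => (key p).1
      i := ξ₁.i ≫ b
      isPullback := isPullback_of_cover (e := resHom B) B.res_surjective hwi W hsup fun p => (key p).2 }
  exact ⟨η, a, b, hsq, hga, hgb, rfl, by
    show ξ₂.i ≫ a = ξ₁.i ≫ b
    rw [← hi₂, ← hi₁, Category.assoc, Category.assoc, hsq.w]⟩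

end Groth.Agent.DefSchLib
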