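import Groth.Agent.DefSchLib.Affine

/-!
# Morphisms of schemes infinitesimally close to a given one
-/

universe u

open CategoryTheory AlgebraicGeometry TopologicalSpace Opposite Limits IsLocalRing

noncomputable section

namespace Groth.Agent.DefSchLib

variable {X Y : Scheme.{u}}

/-- Ring maps on all sections congruent to those of `q` modulo nilpotents. -/
structure Pert (q : Y ⟶ X) where
  δ : ∀ U : X.Opens, Γ(X, U) →+* Γ(Y, q ⁻¹ᵁ U)
  res : ∀ (U V : X.Opens) (h : V ≤ U) (s : Γ(X, U)),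
    δ V (X.presheaf.map (homOfLE h).op s) = Y.presheaf.map (homOfLE (q.preimage_mono h)).op (δ U s)
  near : ∀ U s, IsNilpotent (δ U s - q.app U s)

namespace Pert

variable {q : Y ⟶ X} (P : Pert q)

/-- The comorphism. -/
def c : X.presheaf ⟶ (Opens.map q.base).op ⋙ Y.presheaf where
  app U := CommRingCat.ofHom (P.δ U.unop)
  naturality {U V} f := by
    ext s
    exact P.res U.unop V.unop f.unop.le s

/-- The morphism of presheafed spaces. -/
def toPsh : Y.toPresheafedSpace.Hom X.toPresheafedSpace where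
  base := q.base
  c := P.c

theorem isLocalHom_stalk (y : Y) : IsLocalHom (PresheafedSpace.Hom.stalkMap P.toPsh y).hom := by
  refine ⟨fun u hu => ?_⟩
  obtain ⟨U, hU', s, rfl⟩ := TopCat.Presheaf.germ_exist X.presheaf u
  have hU : q y ∈ U := hU'
  change IsUnit (PresheafedSpace.Hom.stalkMap P.toPsh y (X.presheaf.germ U (q y) hU s)) at hu
  have h1 : (PresheafedSpace.Hom.stalkMap P.toPsh y) (X.presheaf.germ U (q y) hU s)
      = Y.presheaf.germ (q ⁻¹ᵁ U) y hU (P.δ U s) := PresheafedSpace.stalkMap_germ_apply P.toPsh U y hU s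
  have h2 : IsUnit (q.stalkMap y (X.presheaf.germ U (q y) hU s)) := by
    rw [Scheme.Hom.germ_stalkMap_apply]
    have h3 : IsNilpotent (Y.presheaf.germ (q ⁻¹ᵁ U) y hU (P.δ U s - q.app U s)) :=
      (P.near U s).map _
    rw [show q.app U s = P.δ U s - (P.δ U s - q.app U s) by ring, map_sub]
    rw [sub_eq_add_neg]
    exact h3.neg.isUnit_add_left_of_commute (h1 ▸ hu) (Commute.all _ _)
  exact (q.toLRSHom.prop y).map_nonunit _ h2

/-- The perturbed morphism. -/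
def hom : Y ⟶ X := ⟨⟨P.toPsh, P.isLocalHom_stalk⟩⟩

lemma hom_base : P.hom.base = q.base := rfl

lemma hom_app (U : X.Opens) (s : Γ(X, U)) : P.hom.app U s = P.δ U s := rfl

lemma hom_appLE (U : X.Opens) (W : Y.Opens) (h : W ≤ P.hom ⁻¹ᵁ U) (s : Γ(X, U)) :
    P.hom.appLE U W h s = Y.presheaf.map (homOfLE (show W ≤ q ⁻¹ᵁ U from h)).op (P.δ U s) := rfl

lemma hom_appLE_self (U : X.Opens) (h : q ⁻¹ᵁ U ≤ P.hom ⁻¹ᵁ U) (s : Γ(X, U)) :
    P.hom.appLE U (q ⁻¹ᵁ U) h s = P.δ U s := by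
  refine (P.hom_appLE U _ h s).trans ?_
  rw [show homOfLE (show q ⁻¹ᵁ U ≤ q ⁻¹ᵁ U from h) = 𝟙 _ from Subsingleton.elim _ _, op_id,
    CategoryTheory.Functor.map_id, CommRingCat.id_apply]

end Pert

/-- Morphisms with the same map on points and the same sections are equal. -/
theorem hom_ext_of_appLE {f f' : Y ⟶ X} (hb : f.base = f'.base)
    (h : ∀ (U : X.Opens) (W : Y.Opens) (e : W ≤ f ⁻¹ᵁ U) (e' : W ≤ f' ⁻¹ᵁ U) (s : Γ(X, U)),
      f.appLE U W e s = f'.appLE U W e' s) : f = f' := by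
  refine Scheme.Hom.ext hb fun U => ?_
  ext s
  have e : f' ⁻¹ᵁ U ≤ f ⁻¹ᵁ U := le_of_eq (congrArg (fun b => (Opens.map b).obj U) hb.symm)
  refine Eq.trans ?_ ((h U (f' ⁻¹ᵁ U) e le_rfl s).trans ?_)
  · rfl
  · rw [Scheme.Hom.app_eq_appLE]

/-- An endomorphism which fixes the image of a surjection fixes all points. -/
theorem base_eq_id {Z : Scheme.{u}} (i : Z ⟶ Y) [Surjective i] {e : Y ⟶ Y} (h : i ≫ e = i) :
    e.base = 𝟙 _ := by
  ext y
  obtain ⟨z, rfl⟩ := i.surjective y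
  exact congrArg (fun f : Z ⟶ Y => f z) h

lemma preimage_eq_of_base {e : Y ⟶ Y} (h : e.base = 𝟙 _) (U : Y.Opens) : e ⁻¹ᵁ U = U := by
  ext y
  change e y ∈ U ↔ y ∈ U
  rw [show e y = y from congrArg (fun f : (Y : TopCat) ⟶ Y => f y) h]

lemma appLE_comp_apply {Z : Scheme.{u}} (f : Y ⟶ X) (f' : X ⟶ Z) (U : Z.Opens) (V : X.Opens) (W : Y.Opens)
    (e₁ : V ≤ f' ⁻¹ᵁ U) (e₂ : W ≤ f ⁻¹ᵁ V) (s : Γ(Z, U)) :
    (f ≫ f').appLE U W (e₂.trans (f.preimage_mono e₁)) s = f.appLE V W e₂ (f'.appLE U V e₁ s) := by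
  rw [← ConcreteCategory.comp_apply, Scheme.Hom.appLE_comp_appLE]

lemma map_app {W : Y.Opens} (f : Y ⟶ X) (U : X.Opens) (h : W ≤ f ⁻¹ᵁ U) (s : Γ(X, U)) :
    Y.presheaf.map (homOfLE h).op (f.app U s) = f.appLE U W h s := rfl

lemma appLE_congr_hom {f f' : Y ⟶ X} (h : f = f') (U : X.Opens) (W : Y.Opens) (e : W ≤ f ⁻¹ᵁ U) (s : Γ(X, U)) :
    f.appLE U W e s = f'.appLE U W (h ▸ e) s := by
  subst h; rfl

/-- The structure maps under a morphism over `Spec C`. -/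
lemma appLE_str {C : Type u} [CommRing C] {Z : Scheme.{u}} {g : Y ⟶ Spec (CommRingCat.of C)} {h : Z ⟶ Spec (CommRingCat.of C)} (f : Z ⟶ Y) (hf : f ≫ g = h)
    (V : Y.Opens) (W : Z.Opens) (e : W ≤ f ⁻¹ᵁ V) (c : C) : f.appLE V W e (str g V c) = str h W c := by
  subst hf
  exact (appLE_comp_apply f g ⊤ V W le_top e _).symm

end Groth.Agent.DefSchLib
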