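import Groth.Agent.DefSchLib.Pert
import Groth.Agent.DefSchLib.SDer

/-!
# Deformations of a scheme without infinitesimal automorphisms are rigid
-/

universe u

open CategoryTheory AlgebraicGeometry TopologicalSpace Opposite Limits IsLocalRing

noncomputable section

namespace Groth.Agent.DefSchLib

/-- Without derivations, automorphisms fixing the closed fibre are trivial. -/
theorem eq_id_of_no_der {C K : Type u} [CommRing C] [IsLocalRing C] [IsArtinianRing C] [CommRing K] (e : C →+* K)
    (he : Function.Surjective e) (hker : RingHom.ker e = maximalIdeal C) {X Y : Scheme.{u}}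
    {x : X ⟶ Spec (CommRingCat.of K)} {g : Y ⟶ Spec (CommRingCat.of C)} [Flat g] {i : X ⟶ Y}
    (hsq : IsPullback i x g (Spec.map (CommRingCat.ofHom e))) (hD : ∀ (D : SDer x) U s, D.d U s = 0)
    (φ : Y ⟶ Y) (hφg : φ ≫ g = g) (hiφ : i ≫ φ = i) : φ = 𝟙 Y := by
  classical
  haveI := surjective_fibre he hker hsq
  haveI : IsClosedImmersion (Spec.map (CommRingCat.ofHom e)) := IsClosedImmersion.spec_of_surjective _ he
  haveI : IsClosedImmersion i := MorphismProperty.of_isPullback hsq.flip inferInstance
  have hb : φ.base = 𝟙 _ := base_eq_id i hiφ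
  have hle : ∀ U : Y.Opens, U ≤ φ ⁻¹ᵁ U := fun U => by rw [preimage_eq_of_base hb]
  let α : ∀ U : Y.Opens, Γ(Y, U) →+* Γ(Y, U) := fun U => (φ.appLE U U (hle U)).hom
  have hαstr : ∀ U c, α U (str g U c) = str g U c := fun U c => appLE_str φ hφg U U _ c
  have hαres : ∀ {U V : Y.Opens} (h : V ≤ U) (s : Γ(Y, U)),
      α V (Y.presheaf.map (homOfLE h).op s) = Y.presheaf.map (homOfLE h).op (α U s) := by
    intro U V h s
    change φ.appLE _ _ _ _ = Y.presheaf.map _ (φ.appLE _ _ _ s)
    rw [← ConcreteCategory.comp_apply, ← ConcreteCategory.comp_apply, Scheme.Hom.map_appLE, Scheme.Hom.appLE_map]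
  suffices H : ∀ I : Ideal C, I ≤ maximalIdeal C → (∀ (V : Y.affineOpens) s, α V s - s ∈ I.map (str g (V : Y.Opens))) →
      ∀ (V : Y.affineOpens) s, α V s = s by
    have hid : ∀ (V : Y.affineOpens) s, α V s = s := H (maximalIdeal C) le_rfl fun V s => by
      rw [← hker, ← (ker_app he hsq V.2).2.2, RingHom.mem_ker, map_sub, sub_eq_zero]
      change i.app V.1 (φ.appLE _ _ _ s) = i.app V.1 s
      rw [Scheme.Hom.app_eq_appLE, ← appLE_comp_apply i φ _ _ _ (hle V.1) le_rfl]
      exact appLE_congr_hom hiφ _ _ _ s
    refine Scheme.Cover.hom_ext (Y.openCoverOfIsOpenCover (fun V : Y.affineOpens => (V : Y.Opens)) (iSup_affineOpens_eq_top Y)) _ _ fun (V : Y.affineOpens) => ?_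
    change (V : Y.Opens).ι ≫ φ = (V : Y.Opens).ι ≫ 𝟙 Y
    rw [Category.comp_id, ← cancel_epi V.2.isoSpec.inv, ← Category.assoc, IsAffineOpen.isoSpec_inv_ι]
    rw [← IsAffineOpen.SpecMap_appLE_fromSpec φ V.2 V.2 (hle V.1),
      show φ.appLE V.1 V.1 (hle V.1) = 𝟙 _ from CommRingCat.hom_ext (RingHom.ext (hid V)), Spec.map_id, Category.id_comp]
  intro I
  induction I using WellFoundedLT.induction with
  | _ I ih =>
    intro hIm hI
    by_cases hI0 : I = ⊥
    · intro V s
      have := hI V s
      rwa [hI0, Ideal.map_bot, Ideal.mem_bot, sub_eq_zero] at this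
    obtain ⟨K', c, hlt, -, hc, hKc, hmc⟩ := exists_step hI0
    have hcm : ∀ (V : Y.affineOpens) (z : Γ(Y, (V : Y.Opens))), z ∈ (maximalIdeal C).map (str g (V : Y.Opens)) →
        str g (V : Y.Opens) c * z ∈ K'.map (str g (V : Y.Opens)) := by
      intro V z hz
      have h3 := Ideal.mul_mem_mul (Ideal.mem_map_of_mem (str g (V : Y.Opens)) (Ideal.mem_span_singleton_self c)) hz
      rw [← Ideal.map_mul] at h3
      refine Ideal.map_mono ?_ h3
      rw [Ideal.mul_le]
      intro r hr m hm'
      rw [mul_comm]
      exact hmc m hm' _ (hKc ▸ Submodule.mem_sup_right hr)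
    choose y hy using fun (V : Y.affineOpens) s => split_mem (str g _) hKc (hI V s)
    have hspec : ∀ (V : Y.affineOpens) s s' z, i.app V.1 s = i.app V.1 s' →
        α V s' - s' - str g (V : Y.Opens) c * z ∈ K'.map (str g (V : Y.Opens)) → i.app V.1 z = i.app V.1 (y V s) := by
      intro V s s' z hss hz
      rw [← sub_eq_zero, ← map_sub]
      refine RingHom.mem_ker.1 (show _ ∈ RingHom.ker (i.app V.1).hom from ?_)
      rw [(ker_app he hsq V.2).2.2, hker]
      refine cancel _ (flat_str V.2) hc ?_
      have hd : s - s' ∈ (maximalIdeal C).map (str g (V : Y.Opens)) := by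
        rw [← hker, ← (ker_app he hsq V.2).2.2, RingHom.mem_ker, map_sub, sub_eq_zero]
        exact hss
      have hm : ∀ d ∈ (maximalIdeal C).map (str g (V : Y.Opens)), α V d - d ∈ K'.map (str g (V : Y.Opens)) := by
        intro d hd
        induction hd using Submodule.span_induction with
        | mem d hd =>
          obtain ⟨a, -, rfl⟩ := hd
          rw [hαstr, sub_self]
          exact zero_mem _
        | zero => simp
        | add a b _ _ ha hb => rw [map_add, add_sub_add_comm]; exact add_mem ha hb
        | smul r d hd' hd =>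
          rw [smul_eq_mul, map_mul, show α V r * α V d - r * d = α V r * (α V d - d) + (α V r - r) * d by ring]
          refine add_mem (Ideal.mul_mem_left _ _ hd) ?_
          have hd'' : d ∈ (maximalIdeal C).map (str g (V : Y.Opens)) := hd'
          have h4 := Ideal.mul_mem_mul (hI V r) hd''
          rw [← Ideal.map_mul] at h4
          refine Ideal.map_mono ?_ h4
          rw [Ideal.mul_le]
          intro r hr m hm'
          rw [mul_comm]
          exact hmc m hm' r hr
      have h5 := add_mem (sub_mem (hy V s) hz) (neg_mem (hm _ hd))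
      have h6 : str g (V : Y.Opens) c * (z - y V s) = α V s - s - str g (V : Y.Opens) c * y V s
          - (α V s' - s' - str g (V : Y.Opens) c * z) + -(α V (s - s') - (s - s')) := by
        rw [map_sub]; ring
      rw [h6]
      exact h5
    have hsurj : ∀ V : Y.affineOpens, Function.Surjective (i.app V.1).hom := fun V => (ker_app he hsq V.2).1
    choose sec hsec using hsurj
    let dd : ∀ V : Y.affineOpens, Γ(X, i ⁻¹ᵁ (V : Y.Opens)) →+ Γ(X, i ⁻¹ᵁ (V : Y.Opens)) := fun V =>
      AddMonoidHom.mk' (fun t => i.app V.1 (y V (sec V t))) fun a b => by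
        rw [← map_add]
        refine (hspec V _ (sec V a + sec V b) _ (by rw [map_add, hsec, hsec, hsec]) ?_).symm
        have := add_mem (hy V (sec V a)) (hy V (sec V b))
        rw [map_add, mul_add]
        rwa [show α V (sec V a) + α V (sec V b) - (sec V a + sec V b) - (str g (V : Y.Opens) c * y V (sec V a)
            + str g (V : Y.Opens) c * y V (sec V b)) = α V (sec V a) - sec V a - str g (V : Y.Opens) c * y V (sec V a)
            + (α V (sec V b) - sec V b - str g (V : Y.Opens) c * y V (sec V b)) by ring]
    obtain ⟨D, hDd⟩ := exists_sder x i.isClosedEmbedding.isInducing dd (fun V a b => by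
        change i.app V.1 (y V (sec V (a * b))) = a * i.app V.1 (y V (sec V b)) + b * i.app V.1 (y V (sec V a))
        refine (hspec V _ (sec V a * sec V b) (α V (sec V a) * y V (sec V b) + sec V b * y V (sec V a))
          (by rw [map_mul, hsec, hsec, hsec]) ?_).symm.trans ?_
        · have := add_mem (Ideal.mul_mem_left _ (α V (sec V a)) (hy V (sec V b)))
            (Ideal.mul_mem_left _ (sec V b) (hy V (sec V a)))
          rw [map_mul]
          convert this using 1
          ring
        · rw [map_add, map_mul, map_mul, hsec V b]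
          refine congrArg₂ (· + ·) (congrArg (· * _) ?_) rfl
          rw [← sub_add_cancel (α V (sec V a)) (sec V a), map_add, hsec]
          refine (congrArg (· + a) (RingHom.mem_ker.1 (show _ ∈ RingHom.ker (i.app V.1).hom from ?_))).trans (zero_add _)
          rw [(ker_app he hsq V.2).2.2, hker]
          exact Ideal.map_mono hIm (hI V _))
      (fun V V' h s => by
        change i.app V'.1 (y V' (sec V' _)) = X.presheaf.map _ (i.app V.1 (y V (sec V s)))
        rw [← app_res i h]
        refine (hspec V' _ (Y.presheaf.map (homOfLE h).op (sec V s)) _ (by rw [hsec, app_res, hsec]) ?_).symm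
        have h1 := Ideal.mem_map_of_mem (Y.presheaf.map (homOfLE h).op).hom (hy V (sec V s))
        have hcomp : (Y.presheaf.map (homOfLE h).op).hom.comp (str g V.1) = str g V'.1 :=
          RingHom.ext fun a => map_str g h a
        rw [Ideal.map_map, hcomp, map_sub, map_sub, map_mul] at h1
        rw [hαres h]
        convert h1 using 3
        exact (map_str g h c).symm)
      (fun V a => by
        obtain ⟨a, rfl⟩ := he a
        change i.app V.1 (y V (sec V _)) = 0
        refine (hspec V _ (str g (V : Y.Opens) a) 0 (by rw [hsec, (ker_app he hsq V.2).2.1]) ?_).symm.trans (map_zero _)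
        rw [hαstr, sub_self, mul_zero, sub_zero]
        exact zero_mem _)
    refine ih K' hlt (hlt.le.trans hIm) fun V s => ?_
    have h0 : i.app V.1 (y V s) = 0 := by
      rw [hspec V (sec V (i.app V.1 s)) s (y V s) (hsec V _) (hy V s)]
      exact (hDd V (i.app V.1 s)).symm.trans (hD D _ _)
    have h1 := hcm V (y V s) (by
      rw [← hker, ← (ker_app he hsq V.2).2.2]
      exact h0)
    have := add_mem (hy V s) h1
    rwa [sub_add_cancel] at this

end Groth.Agent.DefSchLib
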